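import Groth.Agent.Lib.DCxRing.RestrictTor
import Groth.Agent.Lib.DCxRing.TorLocalMax
import Groth.Agent.Lib.DCxRing.AwayQuot
import Groth.Agent.Lib.DCxRing.Descent
import Groth.Agent.Lib.DCxKFlat.Balance
import Mathlib.RingTheory.IsTensorProduct

/-!
# Tor dimension of algebras
-/

universe u

open CategoryTheory CategoryTheory.Limits TensorProduct GrothLib.DR

attribute [local instance] HasDerivedCategory.standard

namespace GrothLib.PHom

variable {A B C : Type u} [CommRing A] [CommRing B] [CommRing C]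

theorem hasTorDimLE_mono {M : Type u} [AddCommGroup M] [Module A M] {d e : ℕ} (hde : d ≤ e)
    (h : DRing.HasTorDimLE A d M) : DRing.HasTorDimLE A e M :=
  fun N _ _ p hp => h N p (by omega)

theorem finiteTorDim_of_flat (M : Type u) [AddCommGroup M] [Module A M] [Module.Flat A M] :
    DRing.HasFiniteTorDim A M :=
  ⟨0, (KF.hasTorDimLE_iff M 0).2 (by simpa using hasTorAmplitudeIn_of_flat (A := A) M)⟩

theorem torDimLE_of_equiv {M N : Type u} [AddCommGroup M] [Module A M] [AddCommGroup N] [Module A N]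
    (e : M ≃ₗ[A] N) {d : ℕ} (h : DRing.HasTorDimLE A d M) : DRing.HasTorDimLE A d N :=
  (KF.hasTorDimLE_iff N d).2 (hasTorAmplitudeIn_of_equiv e ((KF.hasTorDimLE_iff M d).1 h))

variable [Algebra A B]

/-- A module of a scalar tower is its restriction. -/
noncomputable def towerRestrictEquiv (M : Type u) [AddCommGroup M] [Module B M] [Module A M]
    [IsScalarTower A B M] :
    M ≃ₗ[A] (ModuleCat.restrictScalars (algebraMap A B)).obj (ModuleCat.of B M) where
  toFun x := x
  invFun x := x
  map_add' _ _ := rfl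
  map_smul' r (x : M) := (IsScalarTower.algebraMap_smul B r x).symm
  left_inv _ := rfl
  right_inv _ := rfl

/-- Transitivity. -/
theorem torDimLE_trans {M : Type u} [AddCommGroup M] [Module B M] [Module A M] [IsScalarTower A B M]
    {d e : ℕ} (hB : DRing.HasTorDimLE A d B) (hM : DRing.HasTorDimLE B e M) :
    DRing.HasTorDimLE A (d + e) M := by
  have h := hasTorAmplitudeIn_restrictD (algebraMap A B) d
    (hasTorAmplitudeIn_of_equiv restrictSelfEquiv ((KF.hasTorDimLE_iff B d).1 hB)) ((KF.hasTorDimLE_iff M e).1 hM)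
  refine (KF.hasTorDimLE_iff M (d + e)).2 (hasTorAmplitudeIn_of_equiv (towerRestrictEquiv M).symm
    (hasTorAmplitudeIn_of_iso
      (((ModuleCat.restrictScalars.{u} (algebraMap A B)).mapDerivedCategorySingleFunctor 0).app
        (ModuleCat.of B M)) (hasTorAmplitudeIn_mono ?_ le_rfl h)))
  push_cast; omega

/-- The criterion through exactness of base changed resolutions. -/
theorem torDimLE_iff_bc (d : ℕ) :
    DRing.HasTorDimLE A d B ↔ ∀ (N : Type u) [AddCommGroup N] [Module A N] (p : ℕ), d < p + 1 →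
      ((bc (algebraMap A B)).obj (projectiveResolution (ModuleCat.of A N)).cochainComplex).ExactAt
        (-((p + 1 : ℕ) : ℤ)) := by
  have e : (algebraMap A B).toAlgebra = ‹Algebra A B› := Algebra.algebra_ext _ _ fun _ => rfl
  have key : ∀ (N : Type u) [AddCommGroup N] [Module A N] (p : ℕ),
      Subsingleton (DRing.Tor A (p + 1) B N) ↔
        ((bc (algebraMap A B)).obj (projectiveResolution (ModuleCat.of A N)).cochainComplex).ExactAt
          (-((p + 1 : ℕ) : ℤ)) := fun N _ _ p => by
    rw [KF.subsingleton_tor_iff B (projectiveResolution (ModuleCat.of A N)) p, exactAt_bc_iff, e, tExact_iff]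
  constructor
  · exact fun h N _ _ p hp => (key N p).1 (h N (p + 1) hp)
  · intro h N _ _ p hp
    obtain ⟨q, rfl⟩ : ∃ q, p = q + 1 := ⟨p - 1, by omega⟩
    exact (key N q).2 (h N q hp)

/-- Tor dimension is local on the algebra. -/
theorem torDimLE_of_span (s : Set B) (hs : Ideal.span s = ⊤) {d : ℕ}
    (h : ∀ g ∈ s, DRing.HasTorDimLE A d (Localization.Away g)) : DRing.HasTorDimLE A d B := by
  classical
  obtain ⟨t, hts, ht⟩ := (Ideal.span_eq_top_iff_finite s).1 hs
  let f : Fin t.card → B := fun i => (t.equivFin.symm i).1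
  have hf : Ideal.span (Set.range f) = ⊤ :=
    top_unique (ht.ge.trans (Ideal.span_mono fun x hx => ⟨t.equivFin ⟨x, hx⟩, by simp [f]⟩))
  refine (torDimLE_iff_bc d).2 fun N _ _ p hp => ?_
  rw [HomologicalComplex.exactAt_iff_isZero_homology]
  refine covers_away f hf _ fun i => ?_
  let ψ := algebraMap B (Localization.Away (f i))
  haveI := preservesFiniteLimits_extendScalars ψ (flat_away (f i))
  haveI := (ModuleCat.extendRestrictScalarsAdj.{u} ψ).leftAdjoint_preservesColimits
  refine ((HomologicalComplex.exactAt_iff_isZero_homology _ _).1 ?_).of_iso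
    (mapHomologyIso (ModuleCat.extendScalars.{u, u, u} ψ) _ _).symm
  refine (KF.exactAt_iff_of_iso (bcCompIso (algebraMap A B) ψ _) _).1 ?_
  rw [← IsScalarTower.algebraMap_eq]
  exact (torDimLE_iff_bc d).1 (h (f i) (hts (t.equivFin.symm i).2)) N p hp

/-- Finite tor dimension is local on the algebra. -/
theorem finiteTorDim_of_span (s : Set B) (hs : Ideal.span s = ⊤)
    (h : ∀ g ∈ s, DRing.HasFiniteTorDim A (Localization.Away g)) : DRing.HasFiniteTorDim A B := by
  classical
  obtain ⟨t, hts, ht⟩ := (Ideal.span_eq_top_iff_finite s).1 hs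
  choose d hd using h
  refine ⟨t.attach.sup fun g => d g.1 (hts g.2), torDimLE_of_span (t : Set B) ht fun g hg =>
    hasTorDimLE_mono ?_ (hd g (hts hg))⟩
  exact Finset.le_sup (f := fun g : {x // x ∈ t} => d g.1 (hts g.2)) (Finset.mem_attach t ⟨g, hg⟩)

theorem finiteTorDim_trans [Algebra B C] [Algebra A C] [IsScalarTower A B C]
    (hB : DRing.HasFiniteTorDim A B) (hC : DRing.HasFiniteTorDim B C) : DRing.HasFiniteTorDim A C :=
  let ⟨d, hd⟩ := hB
  let ⟨e, he⟩ := hC
  ⟨d + e, torDimLE_trans hd he⟩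

/-- Flat base change. -/
theorem finiteTorDim_baseChange {A' B' : Type u} [CommRing A'] [CommRing B'] [Algebra A A'] [Algebra A B']
    [Algebra A' B'] [Algebra B B'] [IsScalarTower A A' B'] [IsScalarTower A B B'] [Algebra.IsPushout A A' B B']
    [Module.Flat A A'] (h : DRing.HasFiniteTorDim A B) : DRing.HasFiniteTorDim A' B' := by
  obtain ⟨d, hd⟩ := h
  refine ⟨d, torDimLE_of_equiv (Algebra.IsPushout.equiv A A' B B').toLinearEquiv ?_⟩
  let K : DRing.Cx A := (HomologicalComplex.single (ModuleCat.{u} A) (ComplexShape.up ℤ) 0).obj (ModuleCat.of A B)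
  let eK : DRing.toD K ≅ Dual.inD A B := (((SingleFunctors.evaluation _ _ 0).mapIso
    (DerivedCategory.singleFunctorsPostcompQIso (ModuleCat.{u} A))).app _).symm
  obtain ⟨P, hP, hPp, ⟨eP⟩⟩ := exists_projective_rep (Dual.inD A B) 0 fun i hi =>
    subsingleton_HD_inD B i (by omega)
  haveI := preservesFiniteLimits_extendScalars (algebraMap A A') flat_algebraMap
  haveI := (ModuleCat.extendRestrictScalarsAdj.{u} (algebraMap A A')).leftAdjoint_preservesColimits
  obtain ⟨e1⟩ := nonempty_map_inD (ModuleCat.extendScalars.{u, u, u} (algebraMap A A')) B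
  obtain ⟨e2⟩ := nonempty_extendScalars_iso (A := A) (B := A') B
  obtain ⟨E, hv, hE, ⟨eE⟩⟩ := (KF.hasTorDimLE_iff B d).1 hd
  refine (KF.hasTorDimLE_iff (A' ⊗[A] B) d).2 ⟨(bc (algebraMap A A')).obj E,
    fun i hi => (ModuleCat.extendScalars (algebraMap A A')).map_isZero (hv i hi), termwiseFlat_bc _ hE, ?_⟩
  exact ⟨toDMapCongr (ModuleCat.extendScalars.{u, u, u} (algebraMap A A')) (eE ≪≫ eK.symm) ≪≫ e1 ≪≫
    (DerivedCategory.singleFunctor (ModuleCat.{u} A') 0).mapIso e2.symm⟩

end GrothLib.PHom
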