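import Groth.Agent.Lib.PerfHom.PCLocal
import Groth.Agent.Lib.PerfHom.Tor
import Groth.Agent.Lib.RelPC.TorIndep
import Groth.Agent.Lib.Approx6.Ring
import Groth.Agent.S7026
import Groth.Agent.Lib.DCxRing.Regular

/-!
# Examples of pseudo-coherent and perfect ring maps
-/

universe u

open CategoryTheory CategoryTheory.Limits TensorProduct GrothLib.DR

attribute [local instance] HasDerivedCategory.standard

namespace GrothLib.PHom

variable {A B : Type u} [CommRing A] [CommRing B] [Algebra A B]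

theorem of_relPC_self (h : DerCA.IsRelPseudoCoherentModuleAll A B B) : MoreMor.IsPseudoCoherentHom A B := by
  obtain ⟨n, α, hα, -⟩ := h 0
  exact isPseudoCoherentHom_of_ringPC α hα (RelPC.ringPC_of_relPC_self h α hα)

theorem of_noetherian [IsNoetherianRing A] [Algebra.FiniteType A B] : MoreMor.IsPseudoCoherentHom A B :=
  of_relPC_self ((Groth.Agent.S7026.result (R := A) (A := B) 0 (Dual.inD B B) B).2.2.2 inferInstance)

/-- Flat finitely presented maps are pseudo-coherent. -/
theorem of_flat [Algebra.FinitePresentation A B] [Module.Flat A B] : MoreMor.IsPseudoCoherentHom A B := by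
  obtain ⟨A₀, _, _, B₀, _, _, hft, hft', hflat, ⟨e⟩⟩ := GrothLib.Approx6.exists_flat_model A B
  haveI : IsNoetherianRing A₀ := Algebra.FiniteType.isNoetherianRing ℤ A₀
  have h0 : MoreMor.IsPseudoCoherentHom A₀ B₀ := of_noetherian
  have htor : ∀ p : ℕ, 0 < p → Subsingleton (DRing.Tor A₀ p B₀ A) := fun p hp =>
    (KF.hasTorDimLE_iff B₀ 0).2 (by simpa using hasTorAmplitudeIn_of_flat (A := A₀) B₀) A p hp
  let ι : B₀ →+* A ⊗[A₀] B₀ := (Algebra.TensorProduct.includeRight : B₀ →ₐ[A₀] A ⊗[A₀] B₀).toRingHom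
  haveI := KF.hasLBaseChange ι
  refine of_algEquiv e (of_relPC_self fun m => ?_)
  have h1 := RelPC.rel_lBaseChange_base (R := A₀) (A := B₀) (R' := A) htor (Dual.inD B₀ B₀) m
    (relPC_of_isPseudoCoherentHom h0 m)
  refine RelPC.rel_iso ?_ h1
  let K : DRing.Cx B₀ := (HomologicalComplex.single (ModuleCat.{u} B₀) (ComplexShape.up ℤ) 0).obj (ModuleCat.of B₀ B₀)
  let eK : DRing.toD K ≅ Dual.inD B₀ B₀ := (((SingleFunctors.evaluation _ _ 0).mapIso
    (DerivedCategory.singleFunctorsPostcompQIso (ModuleCat.{u} B₀))).app _).symm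
  have hK : KF.IsKFlat K := KF.isKFlat_of_vanishesAbove (b := 0)
    (fun i hi => HomologicalComplex.isZero_single_obj_X _ _ _ _ (by omega)) fun i => by
      by_cases hi : i = 0
      · subst hi
        exact Module.Flat.of_linearEquiv
          (HomologicalComplex.singleObjXSelf (ComplexShape.up ℤ) 0 (ModuleCat.of B₀ B₀)).toLinearEquiv
      · haveI := ModuleCat.subsingleton_of_isZero
          (HomologicalComplex.isZero_single_obj_X (ComplexShape.up ℤ) 0 (ModuleCat.of B₀ B₀) i hi)
        infer_instance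
  let e1 := (KF.lBase_value ι hK).some
  let e2 := (nonempty_map_inD (ModuleCat.extendScalars.{u, u, u} ι) B₀).some
  refine ((DRing.LBaseChange ι).mapIso eK.symm ≪≫ e1 ≪≫ e2) ≪≫
    (DerivedCategory.singleFunctor (ModuleCat.{u} (A ⊗[A₀] B₀)) 0).mapIso ?_
  letI := ι.toAlgebra
  exact ((nonempty_extendScalars_aux (A := B₀) (B := A ⊗[A₀] B₀) ι.toAlgebra ι rfl B₀).some.symm ≪≫
    (TensorProduct.AlgebraTensorModule.rid B₀ (A ⊗[A₀] B₀) (A ⊗[A₀] B₀)).toModuleIso)

theorem isPerfectHom_of_flat [Algebra.FinitePresentation A B] [Module.Flat A B] : MoreMor.IsPerfectHom A B :=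
  ⟨of_flat, finiteTorDim_of_flat B⟩

end GrothLib.PHom
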