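import Groth.Agent.Lib.PerfHom.Examples
import Groth.Agent.Lib.DCxRing.Splitting
import Groth.Agent.S7035
import Mathlib.RingTheory.RegularLocalRing.Polynomial
import Mathlib.RingTheory.KrullDimension.Polynomial

/-!
# Perfect ring maps
-/

universe u

open CategoryTheory CategoryTheory.Limits TensorProduct GrothLib.DR

attribute [local instance] HasDerivedCategory.standard

namespace GrothLib.PHom

variable {A B : Type u} [CommRing A] [CommRing B] [Algebra A B]

theorem exists_dim_of_lt_top [Nontrivial A] (h : ringKrullDim A < ⊤) : ∃ d : ℕ, ringKrullDim A = d := by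
  have h0 : (0 : WithBot ℕ∞) ≤ ringKrullDim A := ringKrullDim_nonneg_of_nontrivial
  generalize ringKrullDim A = D at h h0
  induction D using WithBot.recBotCoe with
  | bot => simp at h0
  | coe D =>
    induction D using ENat.recTopCoe with
    | top => exact absurd h (lt_irrefl _)
    | coe n => exact ⟨n, rfl⟩

theorem finiteTorDim_of_regular [IsRegularRing A] (hdim : ringKrullDim A < ⊤) (M : Type u) [AddCommGroup M]
    [Module A M] : DRing.HasFiniteTorDim A M := by
  by_cases hA : Nontrivial A
  · obtain ⟨d, hd⟩ := exists_dim_of_lt_top hdim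
    exact ⟨d, (KF.hasTorDimLE_iff M d).2 (hasTorAmplitudeIn_of_projectiveDimension d M
      (pdLE_of_regular (fun p => inferInstance) d hd M))⟩
  · haveI : Subsingleton A := not_nontrivial_iff_subsingleton.1 hA
    haveI : Subsingleton M := Module.subsingleton A M
    exact finiteTorDim_of_flat M

/-- A perfect presentation makes the map perfect. -/
theorem isPerfectHom_of_pres {n : ℕ} (α : MvPolynomial (Fin n) A →ₐ[A] B) (hα : Function.Surjective α)
    (h : letI := α.toRingHom.toAlgebra; DRing.IsPerfectModule (MvPolynomial (Fin n) A) B) :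
    MoreMor.IsPerfectHom A B := by
  letI := α.toRingHom.toAlgebra
  haveI : IsScalarTower A (MvPolynomial (Fin n) A) B := IsScalarTower.of_algebraMap_eq fun x => (α.commutes x).symm
  obtain ⟨hpc, htor⟩ := isPerfect_iff.1 h
  obtain ⟨d, hd⟩ := exists_torDim htor
  exact ⟨⟨n, α, hα, hpc⟩, finiteTorDim_trans (finiteTorDim_of_flat (MvPolynomial (Fin n) A))
    ⟨d, (KF.hasTorDimLE_iff B d).2 hd⟩⟩

/-- A perfect map has perfect presentations. -/
theorem isPerfectModule_pres (h : MoreMor.IsPerfectHom A B) {n : ℕ} (α : MvPolynomial (Fin n) A →ₐ[A] B)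
    (hα : Function.Surjective α) :
    letI := α.toRingHom.toAlgebra; DRing.IsPerfectModule (MvPolynomial (Fin n) A) B := by
  letI := α.toRingHom.toAlgebra
  let P := MvPolynomial (Fin n) A
  haveI : IsScalarTower A P B := IsScalarTower.of_algebraMap_eq fun x => (α.commutes x).symm
  have hpc : DRing.IsPseudoCoherent' P (Dual.inD P B) := ringPC_iff_module.1 (ringPC_pres h.1 α hα)
  obtain ⟨d, hd⟩ := h.2
  haveI : ∀ (p : PrimeSpectrum A) (M : ModuleCat.{u} (p.asIdeal.ResidueField ⊗[A] P)),
      DRing.HasLTensor (p.asIdeal.ResidueField ⊗[A] P) M := fun _ M => KF.hasLTensor M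
  haveI : ∀ m : Ideal P, DRing.HasLBaseChange (Ideal.Quotient.mk m) := fun _ => KF.hasLBaseChange _
  refine (Groth.Agent.S7035.result (A := A) (B := P) n (fun p M _ _ => ?_) (-(d : ℤ)) 0 (Dual.inD P B) hpc
    (hasTorAmplitudeIn_of_iso
      (((ModuleCat.restrictScalars.{u} (algebraMap A P)).mapDerivedCategorySingleFunctor 0).app
        (ModuleCat.of P B)).symm
      (hasTorAmplitudeIn_of_equiv (towerRestrictEquiv B) ((KF.hasTorDimLE_iff B d).1 hd)))).1
  let k := p.asIdeal.ResidueField
  let e : k ⊗[A] P ≃+* MvPolynomial (Fin n) k := (MvPolynomial.algebraTensorAlgEquiv A k).toRingEquiv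
  haveI : IsRegularRing (k ⊗[A] P) := IsRegularRing.of_ringEquiv e.symm
  have hd' : ringKrullDim (k ⊗[A] P) = (n : WithBot ℕ∞) := by
    rw [ringKrullDim_eq_of_ringEquiv e, MvPolynomial.ringKrullDim_of_isNoetherianRing,
      ringKrullDim_eq_zero_of_field]
    simp
  exact pdLE_of_regular (fun q => inferInstance) n hd' M

theorem isPerfectHom_comp {C : Type u} [CommRing C] [Algebra B C] [Algebra A C] [IsScalarTower A B C]
    (h₁ : MoreMor.IsPerfectHom A B) (h₂ : MoreMor.IsPerfectHom B C) : MoreMor.IsPerfectHom A C :=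
  ⟨comp h₁.1 h₂.1, finiteTorDim_trans h₁.2 h₂.2⟩

theorem isPerfectHom_baseChange {A' B' : Type u} [CommRing A'] [CommRing B'] [Algebra A A'] [Algebra A B']
    [Algebra A' B'] [Algebra B B'] [IsScalarTower A A' B'] [IsScalarTower A B B'] [Algebra.IsPushout A A' B B']
    [Module.Flat A A'] (h : MoreMor.IsPerfectHom A B) : MoreMor.IsPerfectHom A' B' := by
  haveI : Algebra.IsPushout A B A' B' := Algebra.IsPushout.symm inferInstance
  exact ⟨baseChange h.1, finiteTorDim_baseChange h.2⟩

theorem isPerfectHom_of_span (s : Set B) (hs : Ideal.span s = ⊤)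
    (h : ∀ g ∈ s, MoreMor.IsPerfectHom A (Localization.Away g)) : MoreMor.IsPerfectHom A B :=
  ⟨of_span s hs fun g hg => (h g hg).1, finiteTorDim_of_span s hs fun g hg => (h g hg).2⟩

end GrothLib.PHom
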