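import Groth.Agent.Lib.PerfHom.Perfect
import Mathlib.AlgebraicGeometry.Morphisms.RingHomProperties
import Mathlib.AlgebraicGeometry.Morphisms.FinitePresentation

/-!
# Pseudo-coherent and perfect morphisms are local
-/

universe u

open AlgebraicGeometry CategoryTheory

namespace GrothLib.PHom

/-- Pseudo-coherence as a property of ring maps. -/
def PCHom {A B : Type u} [CommRing A] [CommRing B] (f : A →+* B) : Prop :=
  letI := f.toAlgebra
  MoreMor.IsPseudoCoherentHom A B

/-- Perfectness as a property of ring maps. -/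
def PerfHom {A B : Type u} [CommRing A] [CommRing B] (f : A →+* B) : Prop :=
  letI := f.toAlgebra
  MoreMor.IsPerfectHom A B

theorem pcHom_algebraMap {A B : Type u} [CommRing A] [CommRing B] [Algebra A B] :
    PCHom (algebraMap A B) ↔ MoreMor.IsPseudoCoherentHom A B := by
  unfold PCHom
  rw [show (algebraMap A B).toAlgebra = ‹Algebra A B› from Algebra.algebra_ext _ _ fun _ => rfl]

theorem perfHom_algebraMap {A B : Type u} [CommRing A] [CommRing B] [Algebra A B] :
    PerfHom (algebraMap A B) ↔ MoreMor.IsPerfectHom A B := by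
  unfold PerfHom
  rw [show (algebraMap A B).toAlgebra = ‹Algebra A B› from Algebra.algebra_ext _ _ fun _ => rfl]

theorem isPerfectHom_away {A : Type u} [CommRing A] (f : A) (Af : Type u) [CommRing Af] [Algebra A Af]
    [IsLocalization.Away f Af] : MoreMor.IsPerfectHom A Af := by
  haveI : Module.Flat A Af := IsLocalization.flat Af (Submonoid.powers f)
  exact ⟨isLocalization_away f Af, finiteTorDim_of_flat Af⟩

theorem pcHom_stableUnderComposition : RingHom.StableUnderComposition @PCHom := by
  intro R S T _ _ _ f g hf hg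
  letI := f.toAlgebra
  letI := g.toAlgebra
  letI := (g.comp f).toAlgebra
  haveI : IsScalarTower R S T := IsScalarTower.of_algebraMap_eq' rfl
  exact comp (B := S) hf hg

theorem perfHom_stableUnderComposition : RingHom.StableUnderComposition @PerfHom := by
  intro R S T _ _ _ f g hf hg
  letI := f.toAlgebra
  letI := g.toAlgebra
  letI := (g.comp f).toAlgebra
  haveI : IsScalarTower R S T := IsScalarTower.of_algebraMap_eq' rfl
  exact isPerfectHom_comp (B := S) hf hg

theorem pcHom_holdsForLocalizationAway : RingHom.HoldsForLocalizationAway @PCHom := by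
  intro R S _ _ _ r _
  exact pcHom_algebraMap.2 (isLocalization_away r S)

theorem perfHom_holdsForLocalizationAway : RingHom.HoldsForLocalizationAway @PerfHom := by
  intro R S _ _ _ r _
  exact perfHom_algebraMap.2 (isPerfectHom_away r S)

theorem pcHom_localizationAwayPreserves : RingHom.LocalizationAwayPreserves @PCHom := by
  intro R S _ _ f r R' S' _ _ _ _ _ _ hf
  letI := f.toAlgebra
  let μ : R' →+* S' := IsLocalization.Away.map R' S' f r
  letI := μ.toAlgebra
  letI := ((algebraMap S S').comp f).toAlgebra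
  haveI : IsScalarTower R S S' := IsScalarTower.of_algebraMap_eq' rfl
  haveI : IsScalarTower R R' S' := IsScalarTower.of_algebraMap_eq' (by
    show _ = μ.comp (algebraMap R R')
    exact (IsLocalization.map_comp _).symm)
  haveI : IsLocalization (Algebra.algebraMapSubmonoid S (Submonoid.powers r)) S' := by
    rw [Algebra.algebraMapSubmonoid, Submonoid.map_powers]; exact ‹IsLocalization.Away (f r) S'›
  haveI : Algebra.IsPushout R S R' S' :=
    Algebra.isPushout_of_isLocalization (Submonoid.powers r) R' S S'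
  haveI : Module.Flat R R' := IsLocalization.flat R' (Submonoid.powers r)
  exact baseChange (A := R) (B := S) (A' := R') (B' := S') hf

theorem perfHom_localizationAwayPreserves : RingHom.LocalizationAwayPreserves @PerfHom := by
  intro R S _ _ f r R' S' _ _ _ _ _ _ hf
  letI := f.toAlgebra
  let μ : R' →+* S' := IsLocalization.Away.map R' S' f r
  letI := μ.toAlgebra
  letI := ((algebraMap S S').comp f).toAlgebra
  haveI : IsScalarTower R S S' := IsScalarTower.of_algebraMap_eq' rfl
  haveI : IsScalarTower R R' S' := IsScalarTower.of_algebraMap_eq' (by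
    show _ = μ.comp (algebraMap R R')
    exact (IsLocalization.map_comp _).symm)
  haveI : IsLocalization (Algebra.algebraMapSubmonoid S (Submonoid.powers r)) S' := by
    rw [Algebra.algebraMapSubmonoid, Submonoid.map_powers]; exact ‹IsLocalization.Away (f r) S'›
  haveI : Algebra.IsPushout R S R' S' :=
    Algebra.isPushout_of_isLocalization (Submonoid.powers r) R' S S'
  haveI : Algebra.IsPushout R R' S S' := Algebra.IsPushout.symm inferInstance
  haveI : Module.Flat R R' := IsLocalization.flat R' (Submonoid.powers r)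
  exact isPerfectHom_baseChange (A := R) (B := S) (A' := R') (B' := S') hf

theorem pcHom_ofLocalizationSpanTarget : RingHom.OfLocalizationSpanTarget @PCHom := by
  intro R S _ _ f s hs H
  letI := f.toAlgebra
  refine of_span (A := R) (B := S) s hs fun g hg => ?_
  have h := H ⟨g, hg⟩
  rw [show (algebraMap S (Localization.Away g)).comp f = algebraMap R (Localization.Away g) from
    (IsScalarTower.algebraMap_eq R S (Localization.Away g)).symm] at h
  exact pcHom_algebraMap.1 h

theorem perfHom_ofLocalizationSpanTarget : RingHom.OfLocalizationSpanTarget @PerfHom := by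
  intro R S _ _ f s hs H
  letI := f.toAlgebra
  refine isPerfectHom_of_span (A := R) (B := S) s hs fun g hg => ?_
  have h := H ⟨g, hg⟩
  rw [show (algebraMap S (Localization.Away g)).comp f = algebraMap R (Localization.Away g) from
    (IsScalarTower.algebraMap_eq R S (Localization.Away g)).symm] at h
  exact perfHom_algebraMap.1 h

theorem pcHom_propertyIsLocal : RingHom.PropertyIsLocal @PCHom where
  localizationAwayPreserves := pcHom_localizationAwayPreserves
  ofLocalizationSpanTarget := pcHom_ofLocalizationSpanTarget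
  ofLocalizationSpan := pcHom_ofLocalizationSpanTarget.ofLocalizationSpan
    (pcHom_stableUnderComposition.stableUnderCompositionWithLocalizationAway pcHom_holdsForLocalizationAway).1
  StableUnderCompositionWithLocalizationAwayTarget :=
    (pcHom_stableUnderComposition.stableUnderCompositionWithLocalizationAway pcHom_holdsForLocalizationAway).2

theorem perfHom_propertyIsLocal : RingHom.PropertyIsLocal @PerfHom where
  localizationAwayPreserves := perfHom_localizationAwayPreserves
  ofLocalizationSpanTarget := perfHom_ofLocalizationSpanTarget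
  ofLocalizationSpan := perfHom_ofLocalizationSpanTarget.ofLocalizationSpan
    (perfHom_stableUnderComposition.stableUnderCompositionWithLocalizationAway perfHom_holdsForLocalizationAway).1
  StableUnderCompositionWithLocalizationAwayTarget :=
    (perfHom_stableUnderComposition.stableUnderCompositionWithLocalizationAway perfHom_holdsForLocalizationAway).2

/-- Pseudo-coherent morphisms, as a morphism property. -/
def PCMor : MorphismProperty Scheme.{u} := fun _ _ f => MoreMor.IsPseudoCoherentMor f

/-- Perfect morphisms, as a morphism property. -/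
def PerfMor : MorphismProperty Scheme.{u} := fun _ _ f => MoreMor.IsPerfectMor f

instance : HasRingHomProperty @PCMor.{u} @PCHom.{u} where
  isLocal_ringHomProperty := pcHom_propertyIsLocal
  eq_affineLocally' := by
    ext X Y f
    rw [affineLocally_iff_affineOpens_le]
    exact ⟨fun h V U e => h U.1 V.1 U.2 V.2 e, fun h U V hU hV e => h ⟨V, hV⟩ ⟨U, hU⟩ e⟩

instance : HasRingHomProperty @PerfMor.{u} @PerfHom.{u} where
  isLocal_ringHomProperty := perfHom_propertyIsLocal
  eq_affineLocally' := by
    ext X Y f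
    rw [affineLocally_iff_affineOpens_le]
    exact ⟨fun h V U e => h U.1 V.1 U.2 V.2 e, fun h U V hU hV e => h ⟨V, hV⟩ ⟨U, hU⟩ e⟩

theorem pcMor_comp {X Y Z : Scheme.{u}} {f : X ⟶ Y} {g : Y ⟶ Z} (hf : MoreMor.IsPseudoCoherentMor f)
    (hg : MoreMor.IsPseudoCoherentMor g) : MoreMor.IsPseudoCoherentMor (f ≫ g) :=
  (HasRingHomProperty.stableUnderComposition (P := @PCMor.{u}) pcHom_stableUnderComposition).comp_mem f g hf hg

theorem perfMor_comp {X Y Z : Scheme.{u}} {f : X ⟶ Y} {g : Y ⟶ Z} (hf : MoreMor.IsPerfectMor f)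
    (hg : MoreMor.IsPerfectMor g) : MoreMor.IsPerfectMor (f ≫ g) :=
  (HasRingHomProperty.stableUnderComposition (P := @PerfMor.{u}) perfHom_stableUnderComposition).comp_mem f g hf hg

theorem pcMor_iff_exists {X Y : Scheme.{u}} (f : X ⟶ Y) :
    MoreMor.IsPseudoCoherentMor f ↔ ∀ x : X, ∃ (U : X.Opens) (V : Y.Opens) (hUV : U ≤ f ⁻¹ᵁ V),
      IsAffineOpen U ∧ IsAffineOpen V ∧ x ∈ U ∧ PCHom (f.appLE V U hUV).hom := by
  refine Iff.trans (HasRingHomProperty.iff_exists_appLE (P := @PCMor.{u}) (f := f)
    (pcHom_stableUnderComposition.stableUnderCompositionWithLocalizationAway pcHom_holdsForLocalizationAway).1) ?_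
  exact forall_congr' fun x => ⟨fun ⟨V, U, hx, e, h⟩ => ⟨U.1, V.1, e, U.2, V.2, hx, h⟩,
    fun ⟨U, V, e, hU, hV, hx, h⟩ => ⟨⟨V, hV⟩, ⟨U, hU⟩, hx, e, h⟩⟩

theorem perfMor_iff_exists {X Y : Scheme.{u}} (f : X ⟶ Y) :
    MoreMor.IsPerfectMor f ↔ ∀ x : X, ∃ (U : X.Opens) (V : Y.Opens) (hUV : U ≤ f ⁻¹ᵁ V),
      IsAffineOpen U ∧ IsAffineOpen V ∧ x ∈ U ∧ PerfHom (f.appLE V U hUV).hom := by
  refine Iff.trans (HasRingHomProperty.iff_exists_appLE (P := @PerfMor.{u}) (f := f)
    (perfHom_stableUnderComposition.stableUnderCompositionWithLocalizationAway perfHom_holdsForLocalizationAway).1) ?_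
  exact forall_congr' fun x => ⟨fun ⟨V, U, hx, e, h⟩ => ⟨U.1, V.1, e, U.2, V.2, hx, h⟩,
    fun ⟨U, V, e, hU, hV, hx, h⟩ => ⟨⟨V, hV⟩, ⟨U, hU⟩, hx, e, h⟩⟩

theorem pcMor_of_comp {X Y Z : Scheme.{u}} {f : X ⟶ Y} {g : Y ⟶ Z} (hX : MoreMor.IsPseudoCoherentMor (f ≫ g))
    (hY : MoreMor.IsPseudoCoherentMor g) : MoreMor.IsPseudoCoherentMor f := by
  refine (pcMor_iff_exists f).2 fun x => ?_
  obtain ⟨_, ⟨W, hW, rfl⟩, hzW, -⟩ := Z.isBasis_affineOpens.exists_subset_of_mem_open
    (Set.mem_univ (g (f x))) isOpen_univ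
  obtain ⟨_, ⟨V, hV, rfl⟩, hyV, hVW⟩ := Y.isBasis_affineOpens.exists_subset_of_mem_open
    (show f x ∈ (g ⁻¹ᵁ W : Y.Opens) from hzW) (g ⁻¹ᵁ W).2
  obtain ⟨_, ⟨U, hU, rfl⟩, hxU, hUV⟩ := X.isBasis_affineOpens.exists_subset_of_mem_open
    (show x ∈ (f ⁻¹ᵁ V : X.Opens) from hyV) (f ⁻¹ᵁ V).2
  refine ⟨U, V, hUV, hU, hV, hxU, ?_⟩
  have hUW : U ≤ (f ≫ g) ⁻¹ᵁ W := fun z hz => hVW (hUV hz)
  letI := (g.appLE W V hVW).hom.toAlgebra
  letI := (f.appLE V U hUV).hom.toAlgebra
  letI : Algebra Γ(Z, W) Γ(X, U) := ((f ≫ g).appLE W U hUW).hom.toAlgebra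
  haveI : IsScalarTower Γ(Z, W) Γ(Y, V) Γ(X, U) := IsScalarTower.of_algebraMap_eq' (by
    show _ = (f.appLE V U hUV).hom.comp (g.appLE W V hVW).hom
    rw [← CommRingCat.hom_comp, Scheme.Hom.appLE_comp_appLE]
    rfl)
  exact of_comp (hY V W hV hW hVW) (hX U W hU hW hUW)

theorem locallyOfFinitePresentation_of_pcMor {X Y : Scheme.{u}} {f : X ⟶ Y}
    (hf : MoreMor.IsPseudoCoherentMor f) : LocallyOfFinitePresentation f :=
  HasRingHomProperty.iff_appLE.mpr fun V U e => by
    letI := (f.appLE V.1 U.1 e).hom.toAlgebra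
    exact finitePresentation (hf U.1 V.1 U.2 V.2 e)

theorem perfMor_of_flat_lfp {X Y : Scheme.{u}} (f : X ⟶ Y) [Flat f] [LocallyOfFinitePresentation f] :
    MoreMor.IsPerfectMor f := fun U V hU hV e => by
  letI := (f.appLE V U e).hom.toAlgebra
  haveI : Module.Flat Γ(Y, V) Γ(X, U) := HasRingHomProperty.appLE @Flat f inferInstance ⟨V, hV⟩ ⟨U, hU⟩ e
  haveI : Algebra.FinitePresentation Γ(Y, V) Γ(X, U) :=
    HasRingHomProperty.appLE @LocallyOfFinitePresentation f inferInstance ⟨V, hV⟩ ⟨U, hU⟩ e
  exact isPerfectHom_of_flat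

end GrothLib.PHom
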