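import Groth.Agent.Lib.PerfHom.Scheme
import Groth.Agent.Lib.LCI6.Koszul

/-!
# Flat base change of pseudo-coherent and perfect morphisms
-/

universe u

open AlgebraicGeometry CategoryTheory Limits

namespace GrothLib.PHom

attribute [local instance] HasDerivedCategory.standard

/-- A ring property stable under flat base change passes to affine pieces of a flat base change. -/
theorem exists_appLE_baseChange {P : ∀ {A B : Type u} [CommRing A] [CommRing B], (A →+* B) → Prop}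
    (hP : ∀ (A B A' B' : Type u) [CommRing A] [CommRing B] [CommRing A'] [CommRing B'] [Algebra A B]
      [Algebra A A'] [Algebra A B'] [Algebra A' B'] [Algebra B B'] [IsScalarTower A A' B'] [IsScalarTower A B B']
      [Algebra.IsPushout A B A' B'] [Module.Flat A A'],
      P (algebraMap A B) → P (algebraMap A' B'))
    {X Y X' Y' : Scheme.{u}} {f : X ⟶ Y} {g : Y' ⟶ Y} [Flat g] {f' : X' ⟶ Y'} {g' : X' ⟶ X}
    (hsq : IsPullback g' f' f g) (x' : X') {U : X.Opens} {V : Y.Opens} (hUV : U ≤ f ⁻¹ᵁ V)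
    (hU : IsAffineOpen U) (hV : IsAffineOpen V) (hx : g' x' ∈ U) (hl : P (f.appLE V U hUV).hom) :
    ∃ (U' : X'.Opens) (W : Y'.Opens) (hUW : U' ≤ f' ⁻¹ᵁ W),
      IsAffineOpen U' ∧ IsAffineOpen W ∧ x' ∈ U' ∧ P (f'.appLE W U' hUW).hom := by
  obtain ⟨_, ⟨W, hW, rfl⟩, hxW, hWV⟩ := Y'.isBasis_affineOpens.exists_subset_of_mem_open
    (show f' x' ∈ ((g ⁻¹ᵁ V : Y'.Opens) : Set Y') from by
      show g (f' x') ∈ V
      rw [← Scheme.Hom.comp_apply, ← hsq.w, Scheme.Hom.comp_apply]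
      exact hUV hx) (g ⁻¹ᵁ V).2
  let U' : X'.Opens := g' ⁻¹ᵁ U ⊓ f' ⁻¹ᵁ W
  haveI : IsAffine (V : Scheme) := hV
  haveI : IsAffine (U : Scheme) := hU
  haveI : IsAffine (W : Scheme) := hW
  have hU' : IsAffineOpen U' := .of_isIso (Scheme.Hom.isPullback_resLE hsq hWV hUV rfl).isoPullback.hom
  have hpo := (isIso_pushoutSection_iff hsq hWV hUV rfl).1
    (isIso_pushoutSection_of_isAffineOpen hsq hWV hUV rfl hV hW hU)
  refine ⟨U', W, inf_le_right, hU', hW, ⟨hx, hxW⟩, ?_⟩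
  letI := (f.appLE V U hUV).hom.toAlgebra
  letI := (g.appLE V W hWV).hom.toAlgebra
  letI := (g'.appLE U U' inf_le_left).hom.toAlgebra
  letI := (f'.appLE W U' inf_le_right).hom.toAlgebra
  letI : Algebra Γ(Y, V) Γ(X', U') := (f.appLE V U hUV ≫ g'.appLE U U' inf_le_left).hom.toAlgebra
  haveI : IsScalarTower Γ(Y, V) Γ(X, U) Γ(X', U') := IsScalarTower.of_algebraMap_eq' rfl
  haveI : IsScalarTower Γ(Y, V) Γ(Y', W) Γ(X', U') := IsScalarTower.of_algebraMap_eq' (by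
    show (f.appLE V U hUV ≫ g'.appLE U U' inf_le_left).hom = _
    rw [hpo.w]
    rfl)
  haveI : Algebra.IsPushout Γ(Y, V) Γ(X, U) Γ(Y', W) Γ(X', U') := CommRingCat.isPushout_iff_isPushout.1 hpo
  haveI : Module.Flat Γ(Y, V) Γ(Y', W) := HasRingHomProperty.appLE @Flat g inferInstance ⟨V, hV⟩ ⟨W, hW⟩ hWV
  exact hP Γ(Y, V) Γ(X, U) Γ(Y', W) Γ(X', U') hl

theorem pcMor_baseChange {X Y X' Y' : Scheme.{u}} {f : X ⟶ Y} {g : Y' ⟶ Y} [Flat g] {f' : X' ⟶ Y'}
    {g' : X' ⟶ X} (hsq : IsPullback g' f' f g) (hf : MoreMor.IsPseudoCoherentMor f) :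
    MoreMor.IsPseudoCoherentMor f' := by
  refine (pcMor_iff_exists f').2 fun x' => ?_
  obtain ⟨U, V, hUV, hU, hV, hx, hl⟩ := (pcMor_iff_exists f).1 hf (g' x')
  exact exists_appLE_baseChange (P := @PCHom.{u}) (fun A B A' B' _ _ _ _ _ _ _ _ _ _ _ _ _ h =>
    pcHom_algebraMap.2 (baseChange (A := A) (B := B) (A' := A') (B' := B') (pcHom_algebraMap.1 h)))
    hsq x' hUV hU hV hx hl

theorem perfMor_baseChange {X Y X' Y' : Scheme.{u}} {f : X ⟶ Y} {g : Y' ⟶ Y} [Flat g] {f' : X' ⟶ Y'}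
    {g' : X' ⟶ X} (hsq : IsPullback g' f' f g) (hf : MoreMor.IsPerfectMor f) :
    MoreMor.IsPerfectMor f' := by
  refine (perfMor_iff_exists f').2 fun x' => ?_
  obtain ⟨U, V, hUV, hU, hV, hx, hl⟩ := (perfMor_iff_exists f).1 hf (g' x')
  refine exists_appLE_baseChange (P := @PerfHom.{u}) (fun A B A' B' _ _ _ _ _ _ _ _ _ _ _ _ _ h => ?_)
    hsq x' hUV hU hV hx hl
  haveI : Algebra.IsPushout A A' B B' := Algebra.IsPushout.symm inferInstance
  exact perfHom_algebraMap.2 (isPerfectHom_baseChange (A := A) (B := B) (A' := A') (B' := B')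
    (perfHom_algebraMap.1 h))

end GrothLib.PHom
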