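import Groth.Agent.Lib.PerfHom.Scheme
import Groth.Agent.Lib.LCI6.Perfect
import Groth.Agent.Lib.LCI6.Smooth
import Mathlib.AlgebraicGeometry.Morphisms.Smooth

/-!
# Cancelling a smooth map from a perfect composite
-/

universe u

open AlgebraicGeometry CategoryTheory TensorProduct

namespace GrothLib.PHom

attribute [local instance] HasDerivedCategory.standard

theorem isPerfectHom_cancel_smooth {A C B : Type u} [CommRing A] [CommRing C] [CommRing B] [Algebra A C] [Algebra A B]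
    [Algebra C B] [IsScalarTower A C B] [Algebra.Smooth A C] (h : MoreMor.IsPerfectHom A B) :
    MoreMor.IsPerfectHom C B := by
  letI : Algebra B (C ⊗[A] B) := Algebra.TensorProduct.rightAlgebra
  haveI : Algebra.IsPushout A C B (C ⊗[A] B) := inferInstance
  haveI : IsScalarTower A B (C ⊗[A] B) := Algebra.TensorProduct.right_isScalarTower
  have h1 : MoreMor.IsPerfectHom C (C ⊗[A] B) :=
    isPerfectHom_baseChange (A := A) (B := B) (A' := C) (B' := C ⊗[A] B) h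
  haveI : Algebra.Smooth B (C ⊗[A] B) := Algebra.Smooth.of_equiv (Algebra.TensorProduct.commRight A B C)
  let s : C ⊗[A] B →ₐ[A] B := Algebra.TensorProduct.lift (IsScalarTower.toAlgHom A C B) (AlgHom.id A B)
    fun _ _ => Commute.all _ _
  letI := s.toRingHom.toAlgebra
  haveI : IsScalarTower B (C ⊗[A] B) B := IsScalarTower.of_algebraMap_eq fun b => by
    show _ = s ((1 : C) ⊗ₜ b)
    simp [s]
  haveI : IsScalarTower C (C ⊗[A] B) B := IsScalarTower.of_algebraMap_eq fun c => by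
    show _ = s (c ⊗ₜ (1 : B))
    simp [s]
  exact isPerfectHom_comp (B := C ⊗[A] B) h1
    (LCI6.isPerfectHom_of_isLCI (LCI6.isLCI_section B (C ⊗[A] B)))

theorem perfMor_cancel_smooth {X Y Z : Scheme.{u}} {f : X ⟶ Y} {g : Y ⟶ Z} [Smooth g]
    (h : MoreMor.IsPerfectMor (f ≫ g)) : MoreMor.IsPerfectMor f := by
  refine (perfMor_iff_exists f).2 fun x => ?_
  obtain ⟨_, ⟨W, hW, rfl⟩, hzW, -⟩ := Z.isBasis_affineOpens.exists_subset_of_mem_open
    (Set.mem_univ (g (f x))) isOpen_univ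
  obtain ⟨_, ⟨V, hV, rfl⟩, hyV, hVW⟩ := Y.isBasis_affineOpens.exists_subset_of_mem_open
    (show f x ∈ (g ⁻¹ᵁ W : Y.Opens) from hzW) (g ⁻¹ᵁ W).2
  obtain ⟨_, ⟨U, hU, rfl⟩, hxU, hUV⟩ := X.isBasis_affineOpens.exists_subset_of_mem_open
    (show x ∈ (f ⁻¹ᵁ V : X.Opens) from hyV) (f ⁻¹ᵁ V).2
  refine ⟨U, V, hUV, hU, hV, hxU, ?_⟩
  have hUW : U ≤ (f ≫ g) ⁻¹ᵁ W := fun z hz => hVW (hUV hz)
  letI := (g.appLE W V hVW).hom.toAlgebra
  letI := (f.appLE V U hUV).hom.toAlgebra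
  letI : Algebra Γ(Z, W) Γ(X, U) := ((f ≫ g).appLE W U hUW).hom.toAlgebra
  haveI : IsScalarTower Γ(Z, W) Γ(Y, V) Γ(X, U) := IsScalarTower.of_algebraMap_eq' (by
    show _ = (f.appLE V U hUV).hom.comp (g.appLE W V hVW).hom
    rw [← CommRingCat.hom_comp, Scheme.Hom.appLE_comp_appLE]
    rfl)
  haveI : Algebra.Smooth Γ(Z, W) Γ(Y, V) := g.smooth_appLE hW hV hVW
  exact isPerfectHom_cancel_smooth (h U W hU hW hUW)

end GrothLib.PHom
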