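import Groth.Agent.Lib.PerfHom.BaseChange
import Mathlib.RingTheory.Finiteness.Descent
import Mathlib.AlgebraicGeometry.Morphisms.LocalIso
import Mathlib.AlgebraicGeometry.Morphisms.Descent

/-!
# Faithfully flat descent of pseudo-coherent and perfect morphisms
-/

universe u

open CategoryTheory CategoryTheory.Limits TensorProduct GrothLib.DR

attribute [local instance] HasDerivedCategory.standard

namespace GrothLib.PHom

variable {A B : Type u} [CommRing A] [CommRing B]

/-- Pseudo-coherence of a module descends along faithfully flat maps. -/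
theorem module_descent {P P' : Type u} [CommRing P] [CommRing P'] [Algebra P P'] [Module.FaithfullyFlat P P']
    (M : Type u) [AddCommGroup M] [Module P M] (h : DRing.IsPseudoCoherentModule' P' (P' ⊗[P] M)) :
    DRing.IsPseudoCoherentModule' P M := by
  let K : DRing.Cx P :=
    (HomologicalComplex.single (ModuleCat.{u} P) (ComplexShape.up ℤ) 0).obj (ModuleCat.of P M)
  let eK : DRing.toD K ≅ Dual.inD P M := (((SingleFunctors.evaluation _ _ 0).mapIso
    (DerivedCategory.singleFunctorsPostcompQIso (ModuleCat.{u} P))).app _).symm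
  refine isPseudoCoherent'_of_forall fun m => DerBC.isPseudoCoherent_of_iso eK
    (isPseudoCoherent_of_covers (covers_faithfullyFlat (A := P) (B := P'))
      (fun _ => RingHom.flat_algebraMap_iff.2 inferInstance) K m fun i => ?_)
  haveI := preservesFiniteLimits_extendScalars (algebraMap P P') (RingHom.flat_algebraMap_iff.2 inferInstance)
  obtain ⟨e1⟩ := nonempty_map_inD (ModuleCat.extendScalars.{u, u, u} (algebraMap P P')) M
  obtain ⟨e2⟩ := nonempty_extendScalars_iso (A := P) (B := P') M
  exact DerBC.isPseudoCoherent_of_iso (e1 ≪≫ (DerivedCategory.singleFunctor (ModuleCat.{u} _) 0).mapIso e2.symm).symm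
    (isPseudoCoherent_of_prime h m)

/-- Tor dimension descends along faithfully flat maps. -/
theorem torDimLE_descent {A' : Type u} [CommRing A'] [Algebra A A'] [Module.FaithfullyFlat A A']
    (M : Type u) [AddCommGroup M] [Module A M] {d : ℕ} (h : DRing.HasTorDimLE A' d (A' ⊗[A] M)) :
    DRing.HasTorDimLE A d M := by
  let K : DRing.Cx A :=
    (HomologicalComplex.single (ModuleCat.{u} A) (ComplexShape.up ℤ) 0).obj (ModuleCat.of A M)
  let eK : DRing.toD K ≅ Dual.inD A M := (((SingleFunctors.evaluation _ _ 0).mapIso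
    (DerivedCategory.singleFunctorsPostcompQIso (ModuleCat.{u} A))).app _).symm
  refine (KF.hasTorDimLE_iff M d).2 (hasTorAmplitudeIn_of_iso eK
    (hasTorAmplitudeIn_of_covers (covers_faithfullyFlat (A := A) (B := A'))
      (fun _ => RingHom.flat_algebraMap_iff.2 inferInstance) K _ _ fun i => ?_))
  haveI := preservesFiniteLimits_extendScalars (algebraMap A A') (RingHom.flat_algebraMap_iff.2 inferInstance)
  obtain ⟨e1⟩ := nonempty_map_inD (ModuleCat.extendScalars.{u, u, u} (algebraMap A A')) M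
  obtain ⟨e2⟩ := nonempty_extendScalars_iso (A := A) (B := A') M
  exact hasTorAmplitudeIn_of_iso (e1 ≪≫ (DerivedCategory.singleFunctor (ModuleCat.{u} _) 0).mapIso e2.symm).symm
    ((KF.hasTorDimLE_iff _ d).1 h)

section Ring

variable {A' B' : Type u} [CommRing A'] [CommRing B'] [Algebra A B] [Algebra A A'] [Algebra A B']
  [Algebra A' B'] [Algebra B B'] [IsScalarTower A A' B'] [IsScalarTower A B B'] [Algebra.IsPushout A B A' B']
  [Module.FaithfullyFlat A A']

/-- Pseudo-coherence descends along faithfully flat maps. -/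
theorem pc_descent (h : MoreMor.IsPseudoCoherentHom A' B') : MoreMor.IsPseudoCoherentHom A B := by
  haveI : Algebra.IsPushout A A' B B' := Algebra.IsPushout.symm inferInstance
  haveI : Algebra.FiniteType A B := by
    haveI := finiteType h
    haveI : Algebra.FiniteType A' (A' ⊗[A] B) := .equiv inferInstance (Algebra.IsPushout.equiv A A' B B').symm
    exact .of_finiteType_tensorProduct_of_faithfullyFlat A'
  obtain ⟨n, α, hα⟩ := Algebra.FiniteType.iff_quotient_mvPolynomial''.mp ‹Algebra.FiniteType A B›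
  refine isPseudoCoherentHom_of_ringPC α hα ?_
  obtain ⟨β, hβ, -, hcomm⟩ := GrothLib.LCI6.ker_aeval_baseChange (A' := A') (B' := B') α hα
  let P := MvPolynomial (Fin n) A
  let P' := MvPolynomial (Fin n) A'
  letI : Algebra P P' := MvPolynomial.algebraMvPolynomial
  letI : Algebra P B := α.toRingHom.toAlgebra
  letI : Algebra P' B' := β.toRingHom.toAlgebra
  letI : Algebra P B' := ((algebraMap B B').comp α.toRingHom).toAlgebra
  haveI : IsScalarTower P B B' := IsScalarTower.of_algebraMap_eq' rfl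
  haveI : IsScalarTower P P' B' := IsScalarTower.of_algebraMap_eq fun x => (hcomm x).symm
  haveI : IsScalarTower A P B := IsScalarTower.of_algebraMap_eq fun x => (α.commutes x).symm
  haveI : IsScalarTower A' P' B' := IsScalarTower.of_algebraMap_eq fun x => (β.commutes x).symm
  haveI : IsScalarTower A P B' := IsScalarTower.of_algebraMap_eq fun x => by
    show _ = algebraMap B B' (α (algebraMap A P x))
    rw [α.commutes, ← IsScalarTower.algebraMap_apply]
  haveI : Algebra.IsPushout A P A' P' := inferInstance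
  haveI : IsScalarTower A P' B' := IsScalarTower.of_algebraMap_eq fun x => by
    rw [IsScalarTower.algebraMap_apply A A' B', IsScalarTower.algebraMap_apply A A' P',
      ← IsScalarTower.algebraMap_apply A' P' B']
  haveI : Algebra.IsPushout P B P' B' := (Algebra.IsPushout.comp_iff (R := A) (S := P) (R' := A') (S' := P')
    (T := B) (T' := B')).1 inferInstance
  haveI : Algebra.IsPushout P P' B B' := Algebra.IsPushout.symm inferInstance
  haveI : Module.FaithfullyFlat P P' := Module.FaithfullyFlat.of_linearEquiv _ _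
    (Algebra.IsPushout.equiv A P A' P').toLinearEquiv.symm
  refine ringPseudoCoherent_algebraMap (module_descent (P := P) (P' := P') B ?_)
  exact isPseudoCoherentModule'_of_equiv (Algebra.IsPushout.equiv P P' B B').toLinearEquiv.symm
    (ringPC_iff_module.1 (ringPC_pres h β hβ))

/-- Perfectness descends along faithfully flat maps. -/
theorem perfect_descent (h : MoreMor.IsPerfectHom A' B') : MoreMor.IsPerfectHom A B := by
  refine ⟨pc_descent (A' := A') (B' := B') h.1, ?_⟩
  haveI : Algebra.IsPushout A A' B B' := Algebra.IsPushout.symm inferInstance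
  obtain ⟨d, hd⟩ := h.2
  exact ⟨d, torDimLE_descent (A' := A') B (torDimLE_of_equiv (Algebra.IsPushout.equiv A A' B B').toLinearEquiv.symm hd)⟩

end Ring

open AlgebraicGeometry

/-- A ring property which descends along faithfully flat maps descends along fpqc base change. -/
theorem exists_appLE_descent {P : ∀ {A B : Type u} [CommRing A] [CommRing B], (A →+* B) → Prop}
    (hP : ∀ (A B A' B' : Type u) [CommRing A] [CommRing B] [CommRing A'] [CommRing B'] [Algebra A B]
      [Algebra A A'] [Algebra A B'] [Algebra A' B'] [Algebra B B'] [IsScalarTower A A' B'] [IsScalarTower A B B']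
      [Algebra.IsPushout A B A' B'] [Module.FaithfullyFlat A A'],
      P (algebraMap A' B') → P (algebraMap A B))
    {X Y Y' : Scheme.{u}} {f : X ⟶ Y} {g : Y' ⟶ Y} [Flat g] [Surjective g] [QuasiCompact g]
    (hall : ∀ {T X'' : Scheme.{u}} (t : T ⟶ Y') [Flat t] (a : X'' ⟶ X) (b : X'' ⟶ T),
      IsPullback a b f (t ≫ g) → ∀ (U' : X''.Opens) (W : T.Opens) (_ : IsAffineOpen U') (_ : IsAffineOpen W)
      (e : U' ≤ b ⁻¹ᵁ W), P (b.appLE W U' e).hom)
    {U : X.Opens} {V : Y.Opens} (hU : IsAffineOpen U) (hV : IsAffineOpen V) (hUV : U ≤ f ⁻¹ᵁ V) :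
    P (f.appLE V U hUV).hom := by
  haveI : CompactSpace (g ⁻¹ᵁ V : Y'.Opens) :=
    isCompact_iff_compactSpace.1 (g.isCompact_preimage hV.isCompact)
  obtain ⟨T, p, hps, hp, hT⟩ :=
    (g ⁻¹ᵁ V : Y'.Opens).toScheme.exists_hom_isAffine_of_isZariskiLocalAtSource @IsLocalIso
  haveI : Flat p := IsLocalIso.le_of_isZariskiLocalAtSource @Flat _ _ _ hp
  let t : T ⟶ Y' := p ≫ (g ⁻¹ᵁ V).ι
  let s : T ⟶ Y := t ≫ g
  have hsq : IsPullback (pullback.fst f s) (pullback.snd f s) f s := IsPullback.of_hasPullback _ _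
  have hW : IsAffineOpen (⊤ : T.Opens) := isAffineOpen_top T
  have hWV : (⊤ : T.Opens) ≤ s ⁻¹ᵁ V := fun z _ => (p z).2
  let U' : (pullback f s).Opens := pullback.fst f s ⁻¹ᵁ U ⊓ pullback.snd f s ⁻¹ᵁ ⊤
  haveI : IsAffine (V : Scheme) := hV
  haveI : IsAffine (U : Scheme) := hU
  haveI : IsAffine ((⊤ : T.Opens) : Scheme) := hW
  have hU' : IsAffineOpen U' := .of_isIso (Scheme.Hom.isPullback_resLE hsq hWV hUV rfl).isoPullback.hom
  have hpo := (isIso_pushoutSection_iff hsq hWV hUV rfl).1
    (isIso_pushoutSection_of_isAffineOpen hsq hWV hUV rfl hV hW hU)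
  have h := hall t (pullback.fst f s) (pullback.snd f s) hsq U' ⊤ hU' hW inf_le_right
  letI := (f.appLE V U hUV).hom.toAlgebra
  letI := (s.appLE V ⊤ hWV).hom.toAlgebra
  letI := ((pullback.fst f s).appLE U U' inf_le_left).hom.toAlgebra
  letI := ((pullback.snd f s).appLE ⊤ U' inf_le_right).hom.toAlgebra
  letI : Algebra Γ(Y, V) Γ(pullback f s, U') :=
    (f.appLE V U hUV ≫ (pullback.fst f s).appLE U U' inf_le_left).hom.toAlgebra
  haveI : IsScalarTower Γ(Y, V) Γ(X, U) Γ(pullback f s, U') := IsScalarTower.of_algebraMap_eq' rfl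
  haveI : IsScalarTower Γ(Y, V) Γ(T, ⊤) Γ(pullback f s, U') := IsScalarTower.of_algebraMap_eq' (by
    show (f.appLE V U hUV ≫ (pullback.fst f s).appLE U U' inf_le_left).hom = _
    rw [hpo.w]
    rfl)
  haveI : Algebra.IsPushout Γ(Y, V) Γ(X, U) Γ(T, ⊤) Γ(pullback f s, U') :=
    CommRingCat.isPushout_iff_isPushout.1 hpo
  haveI : Module.Flat Γ(Y, V) Γ(T, ⊤) := HasRingHomProperty.appLE @Flat s inferInstance ⟨V, hV⟩ ⟨⊤, hW⟩ hWV
  haveI : Module.FaithfullyFlat Γ(Y, V) Γ(T, ⊤) := .of_comap_surjective fun q => by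
    have hy : hV.fromSpec q ∈ V := by
      rw [← SetLike.mem_coe, ← hV.range_fromSpec]
      exact ⟨q, rfl⟩
    obtain ⟨y', hy'⟩ := g.surjective (hV.fromSpec q)
    obtain ⟨z, hz⟩ := hps.surj ⟨y', show g y' ∈ V from hy' ▸ hy⟩
    obtain ⟨q', hq'⟩ : z ∈ Set.range hW.fromSpec := by simp [hW.range_fromSpec]
    refine ⟨q', hV.fromSpec.isOpenEmbedding.injective ?_⟩
    have e := IsAffineOpen.SpecMap_appLE_fromSpec s hV hW hWV
    have e' := congr_arg (fun φ : Spec Γ(T, ⊤) ⟶ Y => φ q') e
    simp only [Scheme.Hom.comp_apply] at e'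
    refine e'.trans ?_
    rw [hq']
    show g ((p z).1) = _
    rw [hz]
    exact hy'
  exact hP Γ(Y, V) Γ(X, U) Γ(T, ⊤) Γ(pullback f s, U') h

theorem pcMor_descent {X Y X' Y' : Scheme.{u}} {f : X ⟶ Y} {f' : X' ⟶ Y'} {g' : X' ⟶ X} {g : Y' ⟶ Y}
    [Flat g] [Surjective g] [QuasiCompact g] (hc : IsPullback g' f' f g)
    (hf' : MoreMor.IsPseudoCoherentMor f') : MoreMor.IsPseudoCoherentMor f := by
  intro U V hU hV hUV
  refine exists_appLE_descent (g := g) (P := @PCHom.{u}) (fun A B A' B' _ _ _ _ _ _ _ _ _ _ _ _ _ h =>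
    pcHom_algebraMap.2 (pc_descent (A' := A') (B' := B') (pcHom_algebraMap.1 h)))
    (fun t _ a b hsq U' W hU' hW e => ?_) hU hV hUV
  exact pcMor_baseChange (IsPullback.of_right' hsq hc) hf' U' W hU' hW e

theorem perfMor_descent {X Y X' Y' : Scheme.{u}} {f : X ⟶ Y} {f' : X' ⟶ Y'} {g' : X' ⟶ X} {g : Y' ⟶ Y}
    [Flat g] [Surjective g] [QuasiCompact g] (hc : IsPullback g' f' f g)
    (hf' : MoreMor.IsPerfectMor f') : MoreMor.IsPerfectMor f := by
  intro U V hU hV hUV
  refine exists_appLE_descent (g := g) (P := @PerfHom.{u}) (fun A B A' B' _ _ _ _ _ _ _ _ _ _ _ _ _ h =>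
    perfHom_algebraMap.2 (perfect_descent (A' := A') (B' := B') (perfHom_algebraMap.1 h)))
    (fun t _ a b hsq U' W hU' hW e => ?_) hU hV hUV
  exact perfMor_baseChange (IsPullback.of_right' hsq hc) hf' U' W hU' hW e

end GrothLib.PHom
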