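import Groth.Agent.Lib.LCI6.Kinds
import Groth.Agent.Lib.LCI6.Koszul
import Groth.Agent.Lib.PerfHom.Scheme
import Groth.Agent.S1509
import Groth.Agent.S2206
import Mathlib.AlgebraicGeometry.Morphisms.Separated

/-!
# Smooth, regular diagonal, perfect diagonal
-/

universe u

open AlgebraicGeometry CategoryTheory Limits TensorProduct

attribute [local instance] HasDerivedCategory.standard

namespace GrothLib.PHom

/-- The diagonal of a smooth separated map over a locally Noetherian scheme is a regular closed immersion. -/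
theorem isRegularClosedImmersion_diagonal {X Y : Scheme.{u}} (f : X ⟶ Y) [Smooth f] [IsSeparated f]
    [IsLocallyNoetherian X] : Mor2.IsRegularClosedImmersion (pullback.diagonal f) := by
  haveI : IsLocallyNoetherian (pullback f f) := LocallyOfFiniteType.isLocallyNoetherian (pullback.fst f f)
  refine ⟨inferInstance, fun z => ?_⟩
  have h : LCI6.InLocus (pullback.diagonal f) z := LCI6.inLocus_cancel_smooth _ (pullback.fst f f) (by
    rw [pullback.diagonal_fst]; exact LCI6.inLocus_of_smooth _ z)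
  obtain ⟨U, hz, -, rs, hrs, hI⟩ :=
    (LCI6.isRegularImmersionAt_iff_inLocus_of_noetherian (pullback.diagonal f) z RegImm.Kind.regular).mpr h
  exact ⟨U.1, U.2, hz, rs, hrs, by rw [Scheme.Hom.ker_apply]; exact hI⟩

/-- A flat finite type map of Noetherian schemes with perfect diagonal is smooth. -/
theorem smooth_of_perfect_diagonal {X Y : Scheme.{u}} (f : X ⟶ Y) [Flat f] [LocallyOfFiniteType f]
    [IsLocallyNoetherian Y] (hd : MoreMor.IsPerfectMor (pullback.diagonal f)) : Smooth f := by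
  rw [HasRingHomProperty.iff_appLE (P := @Smooth)]
  rintro ⟨V, hV⟩ ⟨U, hU⟩ hUV
  letI := (f.appLE V U hUV).hom.toAlgebra
  refine RingHom.smooth_algebraMap.mpr ?_
  haveI : IsNoetherianRing Γ(Y, V) := IsLocallyNoetherian.component_noetherian ⟨V, hV⟩
  haveI : Algebra.FiniteType Γ(Y, V) Γ(X, U) :=
    HasRingHomProperty.appLE @LocallyOfFiniteType f inferInstance ⟨V, hV⟩ ⟨U, hU⟩ hUV
  haveI : Module.Flat Γ(Y, V) Γ(X, U) := HasRingHomProperty.appLE @Flat f inferInstance ⟨V, hV⟩ ⟨U, hU⟩ hUV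
  have hsq : IsPullback (pullback.fst f f) (pullback.snd f f) f f := IsPullback.of_hasPullback f f
  let W : (pullback f f).Opens := pullback.fst f f ⁻¹ᵁ U ⊓ pullback.snd f f ⁻¹ᵁ U
  haveI : IsAffine (V : Scheme) := hV
  haveI : IsAffine (U : Scheme) := hU
  have hW : IsAffineOpen W := .of_isIso (Scheme.Hom.isPullback_resLE hsq hUV hUV rfl).isoPullback.hom
  have hpo := (isIso_pushoutSection_iff hsq hUV hUV rfl).1
    (isIso_pushoutSection_of_isAffineOpen hsq hUV hUV rfl hV hU hU)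
  have hUW : U ≤ pullback.diagonal f ⁻¹ᵁ W := fun z hz => by
    refine ⟨?_, ?_⟩ <;>
    · show _ ∈ U
      rw [← Scheme.Hom.comp_apply]
      simpa using hz
  let i₁ : Γ(X, U) ⟶ Γ(pullback f f, W) := (pullback.fst f f).appLE U W inf_le_left
  let i₂ : Γ(X, U) ⟶ Γ(pullback f f, W) := (pullback.snd f f).appLE U W inf_le_right
  let d : Γ(pullback f f, W) ⟶ Γ(X, U) := (pullback.diagonal f).appLE W U hUW
  have hd₁ : i₁ ≫ d = 𝟙 _ := by
    simp only [i₁, d, Scheme.Hom.appLE_comp_appLE, pullback.diagonal_fst]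
    simp [Scheme.Hom.appLE]
    exact (Category.id_comp _).trans (X.presheaf.map_id _)
  have hd₂ : i₂ ≫ d = 𝟙 _ := by
    simp only [i₂, d, Scheme.Hom.appLE_comp_appLE, pullback.diagonal_snd]
    simp [Scheme.Hom.appLE]
    exact (Category.id_comp _).trans (X.presheaf.map_id _)
  let a : Γ(Y, V) →+* Γ(pullback f f, W) := (f.appLE V U hUV ≫ i₁).hom
  letI : Algebra Γ(Y, V) Γ(pullback f f, W) := a.toAlgebra
  let j₁ : Γ(X, U) →ₐ[Γ(Y, V)] Γ(pullback f f, W) := AlgHom.mk i₁.hom fun r => rfl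
  let j₂ : Γ(X, U) →ₐ[Γ(Y, V)] Γ(pullback f f, W) := AlgHom.mk i₂.hom fun r => by
    show _ = (f.appLE V U hUV ≫ i₁).hom r
    rw [show f.appLE V U hUV ≫ i₁ = f.appLE V U hUV ≫ i₂ from hpo.w]
    rfl
  let τ : Γ(X, U) ⊗[Γ(Y, V)] Γ(X, U) →ₐ[Γ(Y, V)] Γ(pullback f f, W) :=
    Algebra.TensorProduct.lift j₁ j₂ fun _ _ => Commute.all _ _
  have hτ : Function.Bijective τ := by
    let e := (CommRingCat.isPushout_tensorProduct Γ(Y, V) Γ(X, U) Γ(X, U)).isoIsPushout _ _ hpo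
    have he : e.hom = CommRingCat.ofHom τ.toRingHom := by
      refine (CommRingCat.isPushout_tensorProduct Γ(Y, V) Γ(X, U) Γ(X, U)).hom_ext ?_ ?_
      · rw [IsPushout.inl_isoIsPushout_hom]
        ext x
        show i₁.hom x = τ (x ⊗ₜ 1)
        simp [τ, j₁]
      · rw [IsPushout.inr_isoIsPushout_hom]
        ext x
        show i₂.hom x = τ (1 ⊗ₜ x)
        simp [τ, j₂]
    have := e.commRingCatIsoToRingEquiv.bijective
    rwa [show (e.commRingCatIsoToRingEquiv : _ → _) = τ from congrArg (fun φ => (CommRingCat.Hom.hom φ : _ → _)) he]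
      at this
  letI : Algebra Γ(pullback f f, W) Γ(X, U) := d.hom.toAlgebra
  have hperf : MoreMor.IsPerfectHom Γ(pullback f f, W) Γ(X, U) := hd U W hU hW hUW
  letI : Algebra (Γ(X, U) ⊗[Γ(Y, V)] Γ(X, U)) Γ(pullback f f, W) := τ.toRingHom.toAlgebra
  letI : Algebra (Γ(X, U) ⊗[Γ(Y, V)] Γ(X, U)) Γ(X, U) := (d.hom.comp τ.toRingHom).toAlgebra
  haveI : IsScalarTower (Γ(X, U) ⊗[Γ(Y, V)] Γ(X, U)) Γ(pullback f f, W) Γ(X, U) :=
    IsScalarTower.of_algebraMap_eq' rfl
  haveI : Module.Flat (Γ(X, U) ⊗[Γ(Y, V)] Γ(X, U)) Γ(pullback f f, W) :=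
    RingHom.flat_algebraMap_iff.mp (RingHom.Flat.of_bijective hτ)
  have htor : DRing.HasFiniteTorDim (Γ(X, U) ⊗[Γ(Y, V)] Γ(X, U)) Γ(X, U) :=
    finiteTorDim_trans (finiteTorDim_of_flat Γ(pullback f f, W)) hperf.2
  refine Groth.Agent.S2206.result (A := Γ(Y, V)) (B := Γ(X, U)) (fun x y => ?_) htor
  show d.hom (τ (x ⊗ₜ y)) = x * y
  rw [Algebra.TensorProduct.lift_tmul, map_mul]
  exact congrArg₂ (· * ·) (congrArg (fun φ : Γ(X, U) ⟶ Γ(X, U) => φ.hom x) hd₁)
    (congrArg (fun φ : Γ(X, U) ⟶ Γ(X, U) => φ.hom y) hd₂)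

theorem smooth_iff_diagonal {X Y : Scheme.{u}} (f : X ⟶ Y) [IsSeparated f] [LocallyOfFiniteType f]
    [IsLocallyNoetherian X] [IsLocallyNoetherian Y] :
    (Smooth f ↔ Flat f ∧ Mor2.IsRegularClosedImmersion (pullback.diagonal f)) ∧
    (Smooth f ↔ Flat f ∧ MoreMor.IsPerfectMor (pullback.diagonal f)) := by
  have h1 : Smooth f → Flat f ∧ Mor2.IsRegularClosedImmersion (pullback.diagonal f) := fun _ =>
    ⟨inferInstance, isRegularClosedImmersion_diagonal f⟩
  have h2 : Mor2.IsRegularClosedImmersion (pullback.diagonal f) → MoreMor.IsPerfectMor (pullback.diagonal f) :=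
    fun h => Groth.Agent.S1509.result _ h
  have h3 : Flat f ∧ MoreMor.IsPerfectMor (pullback.diagonal f) → Smooth f := fun ⟨_, hp⟩ =>
    smooth_of_perfect_diagonal f hp
  exact ⟨⟨h1, fun h => h3 ⟨h.1, h2 h.2⟩⟩, ⟨fun h => ⟨(h1 h).1, h2 (h1 h).2⟩, h3⟩⟩

end GrothLib.PHom
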