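import Groth.Agent.Lib.PerfHom.Scheme
import Groth.Agent.S7071

universe u
attribute [local instance] HasDerivedCategory.standard
open CategoryTheory GrothLib.DR

namespace GrothLib.PHom

variable {A B : Type u} [CommRing A] [CommRing B] [Algebra A B]

theorem iff_module_of_finite [Module.Finite A B] :
    MoreMor.IsPseudoCoherentHom A B ↔ DRing.IsPseudoCoherentModule' A B := by
  constructor
  · intro h
    refine ringPC_iff_module.1 (isPseudoCoherent'_of_iso (RelPC.restrictInDIso _ B) ?_)
    refine isPseudoCoherent'_of_forall fun m => ?_
    exact (Groth.Agent.S7071.result A A (self A) m _).1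
      ((RelPC.rel_restrict_iff_of_finite (R := A) (A := A) (B := B) _ m).1 (relPC_of_isPseudoCoherentHom h m))
  · intro h
    refine of_relPC_self fun m => (RelPC.rel_restrict_iff_of_finite (R := A) (A := A) (B := B) _ m).2
      ((Groth.Agent.S7071.result A A (self A) m _).2 ?_)
    exact (isPseudoCoherent'_iff.1 (isPseudoCoherent'_of_iso (RelPC.restrictInDIso _ B).symm
      (ringPC_iff_module.2 h))) m

end GrothLib.PHom
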