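import Groth.Prelude.Def_MoreMor
import Groth.Agent.Lib.RelPC.Flat
import Groth.Agent.Lib.RelPC.MapPoly
import Groth.Agent.Lib.DCxRing.Descent
import Groth.Agent.S6935
import Groth.Agent.S7000
import Mathlib.RingTheory.RingHom.FiniteType
import Mathlib.RingTheory.Finiteness.Basic

/-!
# Pseudo-coherent ring maps
-/

universe u

open CategoryTheory CategoryTheory.Limits TensorProduct GrothLib.DR

attribute [local instance] HasDerivedCategory.standard

namespace GrothLib.PHom

variable {A B C : Type u} [CommRing A] [CommRing B] [CommRing C]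

/-- Pseudo-coherence of the module is pseudo-coherence of the map. -/
theorem ringPC_iff_module [Algebra A B] :
    RingPseudoCoherent (algebraMap A B) ↔ DRing.IsPseudoCoherentModule' A B :=
  ⟨fun h => isPseudoCoherentModule'_of_equiv
      (M := (ModuleCat.restrictScalars.{u} (algebraMap A B)).obj (ModuleCat.of B B)) (N := B)
      { toFun := fun x => x
        map_add' := fun _ _ => rfl
        map_smul' := fun r (x : B) => ((Algebra.smul_def r x).symm : algebraMap A B r * x = r • x)
        invFun := fun x => x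
        left_inv := fun _ => rfl
        right_inv := fun _ => rfl } h, ringPseudoCoherent_algebraMap⟩

variable [Algebra A B]

theorem isPseudoCoherentHom_of_ringPC {n : ℕ} (α : MvPolynomial (Fin n) A →ₐ[A] B) (hα : Function.Surjective α)
    (h : RingPseudoCoherent α.toRingHom) : MoreMor.IsPseudoCoherentHom A B := by
  refine ⟨n, α, hα, ?_⟩
  letI := α.toRingHom.toAlgebra
  exact ringPC_iff_module.1 h

theorem relPC_of_isPseudoCoherentHom (h : MoreMor.IsPseudoCoherentHom A B) :
    DerCA.IsRelPseudoCoherentModuleAll A B B := by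
  obtain ⟨n, α, hα, h⟩ := h
  refine (RelPC.relAll_iff α hα _).2 (isPseudoCoherent'_of_iso (RelPC.restrictInDIso _ B).symm ?_)
  letI := α.toRingHom.toAlgebra
  exact ringPC_iff_module.2 h

/-- Every presentation of a pseudo-coherent map is pseudo-coherent. -/
theorem ringPC_pres (h : MoreMor.IsPseudoCoherentHom A B) {n : ℕ} (α : MvPolynomial (Fin n) A →ₐ[A] B)
    (hα : Function.Surjective α) : RingPseudoCoherent α.toRingHom :=
  RelPC.ringPC_of_relPC_self (relPC_of_isPseudoCoherentHom h) α hα

theorem finiteType (h : MoreMor.IsPseudoCoherentHom A B) : Algebra.FiniteType A B := by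
  obtain ⟨n, α, hα, -⟩ := h
  exact Algebra.FiniteType.of_surjective α hα

theorem finitePresentation (h : MoreMor.IsPseudoCoherentHom A B) : Algebra.FinitePresentation A B := by
  obtain ⟨n, α, hα, h⟩ := h
  letI := α.toRingHom.toAlgebra
  have hfp : Module.FinitePresentation (MvPolynomial (Fin n) A) B :=
    (Groth.Agent.S6935.result (MvPolynomial (Fin n) A) B).2.1 (isPseudoCoherent_of_prime h (-1))
  refine Algebra.FinitePresentation.of_surjective hα ?_
  exact Module.FinitePresentation.fg_ker (Algebra.linearMap (MvPolynomial (Fin n) A) B) hα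

theorem of_surjective (hs : Function.Surjective (algebraMap A B))
    (h : DRing.IsPseudoCoherentModule' A B) : MoreMor.IsPseudoCoherentHom A B := by
  let e : MvPolynomial (Fin 0) A ≃ₐ[A] A := MvPolynomial.isEmptyAlgEquiv A (Fin 0)
  let α : MvPolynomial (Fin 0) A →ₐ[A] B := (Algebra.ofId A B).comp e.toAlgHom
  refine isPseudoCoherentHom_of_ringPC α (hs.comp e.surjective) ?_
  exact RelPC.ringPC_comp (RelPC.ringPC_equiv e.toRingEquiv) (ringPC_iff_module.2 h)

theorem module_of_surjective (hs : Function.Surjective (algebraMap A B))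
    (h : MoreMor.IsPseudoCoherentHom A B) : DRing.IsPseudoCoherentModule' A B := by
  let e : MvPolynomial (Fin 0) A ≃ₐ[A] A := MvPolynomial.isEmptyAlgEquiv A (Fin 0)
  let α : MvPolynomial (Fin 0) A →ₐ[A] B := (Algebra.ofId A B).comp e.toAlgHom
  have h1 := RelPC.ringPC_comp (RelPC.ringPC_equiv e.symm.toRingEquiv) (ringPC_pres h α (hs.comp e.surjective))
  refine ringPC_iff_module.1 ?_
  convert h1 using 1
  exact RingHom.ext fun x => by simp [α]

theorem self (A : Type u) [CommRing A] : MoreMor.IsPseudoCoherentHom A A :=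
  of_surjective Function.surjective_id (isPseudoCoherentModule'_of_finite_free A)

theorem away (f : A) : MoreMor.IsPseudoCoherentHom A (Localization.Away f) := by
  obtain ⟨n, α, hα, -⟩ := (RelPC.relPC_away f) 0
  exact isPseudoCoherentHom_of_ringPC α hα (RelPC.ringPC_of_relPC_self (RelPC.relPC_away f) α hα)

theorem of_algEquiv {B' : Type u} [CommRing B'] [Algebra A B'] (e : B ≃ₐ[A] B')
    (h : MoreMor.IsPseudoCoherentHom A B) : MoreMor.IsPseudoCoherentHom A B' := by
  obtain ⟨n, α, hα, -⟩ := id h
  exact isPseudoCoherentHom_of_ringPC (e.toAlgHom.comp α) (e.surjective.comp hα)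
    (RelPC.ringPC_comp (ringPC_pres h α hα) (RelPC.ringPC_equiv e.toRingEquiv))

theorem isLocalization_away (f : A) (Af : Type u) [CommRing Af] [Algebra A Af] [IsLocalization.Away f Af] :
    MoreMor.IsPseudoCoherentHom A Af :=
  of_algEquiv (IsLocalization.algEquiv (Submonoid.powers f) (Localization.Away f) Af) (away f)

variable [Algebra B C] [Algebra A C] [IsScalarTower A B C]

theorem comp (h₁ : MoreMor.IsPseudoCoherentHom A B) (h₂ : MoreMor.IsPseudoCoherentHom B C) :
    MoreMor.IsPseudoCoherentHom A C := by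
  obtain ⟨n, α, hα, -⟩ := id h₁
  obtain ⟨k, β, hβ, -⟩ := id h₂
  obtain ⟨γ, e, hγ, he⟩ := RelPC.exists_pres_comp α hα β hβ
  refine isPseudoCoherentHom_of_ringPC γ hγ ?_
  show RingPseudoCoherent (γ : MvPolynomial (Fin (k + n)) A →+* C)
  rw [he]
  exact RelPC.ringPC_comp (RelPC.ringPC_equiv e)
    (RelPC.ringPC_comp (RelPC.ringPC_map (ringPC_pres h₁ α hα) _) (ringPC_pres h₂ β hβ))

/-- Cancellation. -/
theorem of_comp (h₁ : MoreMor.IsPseudoCoherentHom A B) (h : MoreMor.IsPseudoCoherentHom A C) :
    MoreMor.IsPseudoCoherentHom B C := by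
  obtain ⟨n, α, hα, -⟩ := id h₁
  haveI := finiteType h
  haveI : Algebra.FiniteType B C := Algebra.FiniteType.of_restrictScalars_finiteType A B C
  obtain ⟨k, β, hβ⟩ := Algebra.FiniteType.iff_quotient_mvPolynomial''.1 (inferInstance : Algebra.FiniteType B C)
  obtain ⟨γ, e, hγ, he⟩ := RelPC.exists_pres_comp α hα β hβ
  refine isPseudoCoherentHom_of_ringPC β hβ ?_
  let φ := MvPolynomial.map (σ := Fin k) (α : MvPolynomial (Fin n) A →+* B)
  have hφ : RingPseudoCoherent φ := RelPC.ringPC_map (ringPC_pres h₁ α hα) _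
  have h2 : RingPseudoCoherent ((β.toRingHom).comp φ) := by
    have := RelPC.ringPC_comp (RelPC.ringPC_equiv e.symm) (ringPC_pres h γ hγ)
    convert this using 1
    refine RingHom.ext fun x => ?_
    show β (φ x) = (γ : MvPolynomial (Fin (k + n)) A →+* C) (e.symm x)
    rw [he]
    simp [φ]
  refine (isPseudoCoherent'_restrictD_iff hφ _).2 (isPseudoCoherent'_of_iso ?_ h2)
  exact ((DerivedCategory.singleFunctor (ModuleCat.{u} _) 0).mapIso
      ((ModuleCat.restrictScalarsComp'App φ β.toRingHom (β.toRingHom.comp φ) rfl (ModuleCat.of C C)))) ≪≫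
    (((ModuleCat.restrictScalars.{u} φ).mapDerivedCategorySingleFunctor 0).app
      ((ModuleCat.restrictScalars.{u} β.toRingHom).obj (ModuleCat.of C C))).symm

end GrothLib.PHom
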