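import Groth.Agent.Lib.PerfHom.PC
import Groth.Agent.Lib.LCI6.DescentLCI

/-!
# Base change and locality of pseudo-coherent ring maps
-/

universe u

open CategoryTheory CategoryTheory.Limits TensorProduct GrothLib.DR

attribute [local instance] HasDerivedCategory.standard

namespace GrothLib.PHom

variable {A B : Type u} [CommRing A] [CommRing B]

theorem module_pushout {P P' B' : Type u} [CommRing P] [CommRing P'] [CommRing B'] [Algebra P P'] [Algebra P B]
    [Algebra P B'] [Algebra P' B'] [Algebra B B'] [IsScalarTower P P' B'] [IsScalarTower P B B']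
    [Module.Flat P P'] [Algebra.IsPushout P P' B B'] (h : DRing.IsPseudoCoherentModule' P B) :
    DRing.IsPseudoCoherentModule' P' B' :=
  isPseudoCoherentModule'_of_equiv (Algebra.IsPushout.equiv P P' B B').toLinearEquiv
    ((Groth.Agent.S7000.result 0 B).2 h)

/-- Flat base change. -/
theorem baseChange {A' B' : Type u} [CommRing A'] [CommRing B'] [Algebra A B] [Algebra A A'] [Algebra A B']
    [Algebra A' B'] [Algebra B B'] [IsScalarTower A A' B'] [IsScalarTower A B B'] [Algebra.IsPushout A B A' B']
    [Module.Flat A A'] (h : MoreMor.IsPseudoCoherentHom A B) : MoreMor.IsPseudoCoherentHom A' B' := by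
  obtain ⟨n, α, hα, -⟩ := id h
  obtain ⟨β, hβ, -, hcomm⟩ := GrothLib.LCI6.ker_aeval_baseChange (A' := A') (B' := B') α hα
  refine isPseudoCoherentHom_of_ringPC β hβ ?_
  let P := MvPolynomial (Fin n) A
  let P' := MvPolynomial (Fin n) A'
  letI : Algebra P P' := MvPolynomial.algebraMvPolynomial
  letI : Algebra P B := α.toRingHom.toAlgebra
  letI : Algebra P' B' := β.toRingHom.toAlgebra
  letI : Algebra P B' := ((algebraMap B B').comp α.toRingHom).toAlgebra
  haveI : IsScalarTower P B B' := IsScalarTower.of_algebraMap_eq' rfl
  haveI : IsScalarTower P P' B' := IsScalarTower.of_algebraMap_eq fun x => (hcomm x).symm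
  haveI : IsScalarTower A P B := IsScalarTower.of_algebraMap_eq fun x => (α.commutes x).symm
  haveI : IsScalarTower A' P' B' := IsScalarTower.of_algebraMap_eq fun x => (β.commutes x).symm
  haveI : IsScalarTower A P B' := IsScalarTower.of_algebraMap_eq fun x => by
    show _ = algebraMap B B' (α (algebraMap A P x))
    rw [α.commutes, ← IsScalarTower.algebraMap_apply]
  haveI : Algebra.IsPushout A P A' P' := inferInstance
  haveI : IsScalarTower A P' B' := IsScalarTower.of_algebraMap_eq fun x => by
    rw [IsScalarTower.algebraMap_apply A A' B', IsScalarTower.algebraMap_apply A A' P',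
      ← IsScalarTower.algebraMap_apply A' P' B']
  haveI : Algebra.IsPushout P B P' B' := (Algebra.IsPushout.comp_iff (R := A) (S := P) (R' := A') (S' := P')
    (T := B) (T' := B')).1 inferInstance
  haveI : Algebra.IsPushout P P' B B' := Algebra.IsPushout.symm inferInstance
  haveI : Module.Flat P P' := Module.Flat.isBaseChange A P A' P'
    (inferInstance : Algebra.IsPushout A P A' P').out
  exact ringPseudoCoherent_algebraMap (module_pushout (ringPC_iff_module.1 (ringPC_pres h α hα)))

/-- Pseudo-coherence is local on the target. -/
theorem of_span [Algebra A B] (s : Set B) (hs : Ideal.span s = ⊤)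
    (h : ∀ g ∈ s, MoreMor.IsPseudoCoherentHom A (Localization.Away g)) : MoreMor.IsPseudoCoherentHom A B := by
  classical
  haveI : Algebra.FiniteType A B := by
    rw [← RingHom.finiteType_algebraMap]
    refine RingHom.finiteType_ofLocalizationSpanTarget (algebraMap A B) s hs fun r => ?_
    rw [show (algebraMap B (Localization.Away (r : B))).comp (algebraMap A B) =
        algebraMap A (Localization.Away (r : B)) from (IsScalarTower.algebraMap_eq A B _).symm]
    exact RingHom.finiteType_algebraMap.mpr (finiteType (h r r.2))
  obtain ⟨n, α, hα⟩ := Algebra.FiniteType.iff_quotient_mvPolynomial''.mp ‹Algebra.FiniteType A B›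
  refine isPseudoCoherentHom_of_ringPC α hα ?_
  let P := MvPolynomial (Fin n) A
  letI : Algebra P B := α.toRingHom.toAlgebra
  haveI : IsScalarTower A P B := IsScalarTower.of_algebraMap_eq fun x => (α.commutes x).symm
  let t : Set P := {g | DRing.IsPseudoCoherentModule' (Localization.Away g) (Localization.Away g ⊗[P] B)}
  have ht : Ideal.span t = ⊤ := by
    by_contra hne
    obtain ⟨m, hm, hle⟩ := Ideal.exists_le_maximal _ hne
    by_cases hIm : RingHom.ker (algebraMap P B) ≤ m
    · haveI : (m.map (algebraMap P B)).IsPrime := Ideal.map_isPrime_of_surjective hα hIm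
      obtain ⟨b, hbs, hb⟩ := Set.not_subset.mp fun hsub : s ⊆ (m.map (algebraMap P B) : Ideal B) =>
        (inferInstance : (m.map (algebraMap P B)).IsPrime).ne_top (top_unique (hs ▸ Ideal.span_le.mpr hsub))
      obtain ⟨g, rfl⟩ := hα b
      have hgm : g ∉ m := fun hg => hb (Ideal.mem_map_of_mem _ hg)
      refine hgm (hle (Ideal.subset_span ?_))
      let Pg := Localization.Away g
      let Bg := Localization.Away (algebraMap P B g)
      letI : Algebra Pg Bg := (Localization.awayMap (algebraMap P B) g).toAlgebra
      haveI : IsScalarTower P Pg Bg := IsScalarTower.of_algebraMap_eq fun x => by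
        show _ = Localization.awayMap (algebraMap P B) g (algebraMap P Pg x)
        rw [IsScalarTower.algebraMap_apply P B Bg]
        exact (IsLocalization.map_eq _ x).symm
      haveI : IsScalarTower A Pg Bg := IsScalarTower.of_algebraMap_eq fun x => by
        rw [IsScalarTower.algebraMap_apply A P Bg, IsScalarTower.algebraMap_apply A P Pg,
          ← IsScalarTower.algebraMap_apply P Pg Bg]
      have hAP : MoreMor.IsPseudoCoherentHom A Pg :=
        comp (B := P) (isPseudoCoherentHom_of_ringPC (AlgHom.id A P) Function.surjective_id
          (RelPC.ringPC_equiv (RingEquiv.refl P))) (away g)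
      have hPgBg : DRing.IsPseudoCoherentModule' Pg Bg := by
        refine module_of_surjective ?_ (of_comp hAP (h _ hbs))
        haveI : IsLocalization ((Submonoid.powers g).map (algebraMap P B)) Bg := by
          rw [Submonoid.map_powers]; infer_instance
        exact IsLocalization.map_surjective_of_surjective (M := Submonoid.powers g) _ _ hα
      haveI : IsLocalization (Algebra.algebraMapSubmonoid B (Submonoid.powers g)) Bg := by
        rw [Algebra.algebraMapSubmonoid, Submonoid.map_powers]; infer_instance
      haveI : Algebra.IsPushout P B Pg Bg := Algebra.isPushout_of_isLocalization (Submonoid.powers g) _ _ _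
      haveI : Algebra.IsPushout P Pg B Bg := Algebra.IsPushout.symm inferInstance
      exact isPseudoCoherentModule'_of_equiv (Algebra.IsPushout.equiv P Pg B Bg).toLinearEquiv.symm hPgBg
    · obtain ⟨g, hgI, hgm⟩ := SetLike.not_le_iff_exists.1 hIm
      refine hgm (hle (Ideal.subset_span ?_))
      haveI : Subsingleton (Localization.Away g ⊗[P] B) := ⟨fun x y => by
        have key : ∀ z : Localization.Away g ⊗[P] B, z = 0 := fun z => by
          have hg : algebraMap P B g = 0 := hgI
          induction z using TensorProduct.induction_on with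
          | zero => rfl
          | tmul a b =>
            obtain ⟨u, hu⟩ := IsLocalization.Away.algebraMap_isUnit (S := Localization.Away g) g
            calc a ⊗ₜ[P] b = (g • ((↑u⁻¹ : Localization.Away g) * a)) ⊗ₜ[P] b := by
                  rw [Algebra.smul_def, ← hu, ← mul_assoc, Units.mul_inv, one_mul]
              _ = ((↑u⁻¹ : Localization.Away g) * a) ⊗ₜ[P] (g • b) := TensorProduct.smul_tmul _ _ _
              _ = 0 := by rw [Algebra.smul_def, hg, zero_mul, TensorProduct.tmul_zero]
          | add z w hz hw => rw [hz, hw, add_zero]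
        rw [key x, key y]⟩
      exact isPseudoCoherentModule'_of_subsingleton _
  obtain ⟨t', htt, ht'⟩ := (Ideal.span_eq_top_iff_finite t).1 ht
  let f : Fin t'.card → P := fun i => (t'.equivFin.symm i).1
  have hf : Ideal.span (Set.range f) = ⊤ :=
    top_unique (ht'.ge.trans (Ideal.span_mono fun x hx => ⟨t'.equivFin ⟨x, hx⟩, by simp [f]⟩))
  let K : DRing.Cx P :=
    (HomologicalComplex.single (ModuleCat.{u} P) (ComplexShape.up ℤ) 0).obj (ModuleCat.of P B)
  let eK : DRing.toD K ≅ Dual.inD P B := (((SingleFunctors.evaluation _ _ 0).mapIso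
    (DerivedCategory.singleFunctorsPostcompQIso (ModuleCat.{u} P))).app _).symm
  refine ringPC_iff_module.2 (isPseudoCoherent'_of_forall fun m => DerBC.isPseudoCoherent_of_iso eK
    (isPseudoCoherent_of_covers (covers_away f hf) (fun i => flat_away (f i)) K m fun i => ?_))
  let φ := algebraMap P (Localization.Away (f i))
  haveI := preservesFiniteLimits_extendScalars φ (flat_away (f i))
  obtain ⟨e1⟩ := nonempty_map_inD (ModuleCat.extendScalars.{u, u, u} φ) B
  obtain ⟨e2⟩ := nonempty_extendScalars_iso (A := P) (B := Localization.Away (f i)) B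
  exact DerBC.isPseudoCoherent_of_iso (e1 ≪≫ (DerivedCategory.singleFunctor (ModuleCat.{u} _) 0).mapIso e2.symm).symm
    (isPseudoCoherent_of_prime (htt (t'.equivFin.symm i).2) m)

end GrothLib.PHom
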