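import Groth.Agent.Lib.PerfHom.Perfect
import Groth.Agent.Lib.DCxRing.TorLocalMax
import Groth.Agent.Lib.GeomReg.Local
import Groth.Agent.S7002
import Groth.Agent.S7035

/-!
# Finite tor dimension of pseudo-coherent maps from the stalks
-/

universe u

open CategoryTheory CategoryTheory.Limits TensorProduct GrothLib.DR

attribute [local instance] HasDerivedCategory.standard

namespace GrothLib.PHom

variable {A B : Type u} [CommRing A] [CommRing B] [Algebra A B]

theorem ringKrullDim_le_of_isLocalization {R S : Type u} [CommRing R] [CommRing S] [Algebra R S]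
    (M : Submonoid R) [IsLocalization M S] : ringKrullDim S ≤ ringKrullDim R :=
  Order.krullDim_le_of_strictMono _
    ((OrderEmbedding.subtype _).strictMono.comp (IsLocalization.primeSpectrumOrderIso M S).strictMono)

/-- Fibres of a localised polynomial ring have bounded projective dimension. -/
theorem pdLE_fibre_localization {n : ℕ} (q : Ideal (MvPolynomial (Fin n) A)) [q.IsPrime]
    (k : Type u) [Field k] [Algebra A k] (M : Type u) [AddCommGroup M]
    [Module (k ⊗[A] Localization.AtPrime q) M] :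
    HasProjectiveDimensionLT (ModuleCat.of (k ⊗[A] Localization.AtPrime q) M) (n + 1) := by
  let P := MvPolynomial (Fin n) A
  let L := Localization.AtPrime q
  let e : k ⊗[A] P ≃+* MvPolynomial (Fin n) k := (MvPolynomial.algebraTensorAlgEquiv A k).toRingEquiv
  haveI : IsRegularRing (k ⊗[A] P) := IsRegularRing.of_ringEquiv e.symm
  haveI : IsRegularRing (k ⊗[A] L) := GeomReg.isRegularRing_tensor_localization (R := A) (S := P) q.primeCompl k
  have hd : ringKrullDim (k ⊗[A] L) ≤ (n : WithBot ℕ∞) := by
    let E : (P ⊗[A] k) ⊗[P] L ≃+* k ⊗[A] L := (Algebra.TensorProduct.comm P (P ⊗[A] k) L).toRingEquiv.trans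
      ((Algebra.TensorProduct.cancelBaseChange A P L L k).toRingEquiv.trans
        (Algebra.TensorProduct.comm A L k).toRingEquiv)
    refine (ringKrullDim_eq_of_ringEquiv (R := (P ⊗[A] k) ⊗[P] L) (S := k ⊗[A] L) E).ge.trans ?_
    refine (ringKrullDim_le_of_isLocalization (R := P ⊗[A] k) (S := (P ⊗[A] k) ⊗[P] L) (Algebra.algebraMapSubmonoid (P ⊗[A] k) q.primeCompl)).trans ?_
    rw [ringKrullDim_eq_of_ringEquiv ((Algebra.TensorProduct.comm A P k).toRingEquiv.trans e),
      MvPolynomial.ringKrullDim_of_isNoetherianRing, ringKrullDim_eq_zero_of_field]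
    simp
  by_cases hN : Nontrivial (k ⊗[A] L)
  · obtain ⟨d, hd'⟩ := exists_dim_of_lt_top (lt_of_le_of_lt hd
      (WithBot.coe_lt_coe.mpr (ENat.natCast_lt_top n)))
    have hdn : d ≤ n := by
      rw [hd'] at hd
      exact_mod_cast hd
    haveI := pdLE_of_regular (fun p => inferInstance) d hd' M
    exact hasProjectiveDimensionLT_of_ge _ (d + 1) (n + 1) (by omega)
  · haveI : Subsingleton (k ⊗[A] L) := not_nontrivial_iff_subsingleton.1 hN
    haveI : Subsingleton M := Module.subsingleton (k ⊗[A] L) M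
    haveI : Projective (ModuleCat.of (k ⊗[A] L) M) := (ModuleCat.isZero_of_subsingleton _).projective
    exact hasProjectiveDimensionLT_of_ge _ 1 (n + 1) (by omega)

/-- A pseudo-coherent algebra with finite tor dimension at a prime has it nearby. -/
theorem exists_away_finiteTorDim (h : MoreMor.IsPseudoCoherentHom A B) (q : Ideal B) [q.IsPrime]
    (hq : DRing.HasFiniteTorDim A (Localization.AtPrime q)) :
    ∃ b ∉ q, DRing.HasFiniteTorDim A (Localization.Away b) := by
  obtain ⟨n, α, hα, hpc⟩ := h
  let P := MvPolynomial (Fin n) A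
  letI : Algebra P B := α.toRingHom.toAlgebra
  haveI : IsScalarTower A P B := IsScalarTower.of_algebraMap_eq fun x => (α.commutes x).symm
  let Bq := Localization.AtPrime q
  haveI : IsScalarTower A P Bq := IsScalarTower.of_algebraMap_eq fun x => by
    rw [IsScalarTower.algebraMap_apply A B Bq, IsScalarTower.algebraMap_apply A P B,
      ← IsScalarTower.algebraMap_apply P B Bq]
  obtain ⟨d, hd⟩ := hq
  let q' : Ideal P := q.comap (algebraMap P B)
  let Pq := Localization.AtPrime q'
  let φ := algebraMap P Pq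
  have hT : q'.primeCompl.map (algebraMap P B) = q.primeCompl := by
    ext z
    obtain ⟨y, rfl⟩ := hα z
    exact ⟨fun ⟨w, hw, hwy⟩ hy => hw (show algebraMap P B w ∈ q from hwy.symm ▸ hy),
      fun hy => ⟨y, fun hyp => hy hyp, rfl⟩⟩
  letI : Algebra Pq Bq := (Localization.localRingHom q' q (algebraMap P B) rfl).toAlgebra
  haveI : IsScalarTower P Pq Bq := IsScalarTower.of_algebraMap_eq fun x => by
    show _ = Localization.localRingHom q' q (algebraMap P B) rfl (algebraMap P Pq x)
    rw [Localization.localRingHom_to_map, ← IsScalarTower.algebraMap_apply]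
  haveI : IsScalarTower A Pq Bq := IsScalarTower.of_algebraMap_eq fun x => by
    rw [IsScalarTower.algebraMap_apply A P Bq, IsScalarTower.algebraMap_apply A P Pq,
      ← IsScalarTower.algebraMap_apply P Pq Bq]
  haveI : IsLocalization (Algebra.algebraMapSubmonoid B q'.primeCompl) Bq := by
    rw [Algebra.algebraMapSubmonoid, hT]; infer_instance
  haveI : Algebra.IsPushout P B Pq Bq := Algebra.isPushout_of_isLocalization q'.primeCompl _ _ _
  haveI : Algebra.IsPushout P Pq B Bq := Algebra.IsPushout.symm inferInstance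
  haveI : Module.Flat A Pq := Module.Flat.trans A P Pq
  -- the resolution and its localisation
  obtain ⟨Q, c, hQc, hQf, ⟨eQ⟩⟩ := id hpc
  let K : DRing.Cx P := (HomologicalComplex.single (ModuleCat.{u} P) (ComplexShape.up ℤ) 0).obj (ModuleCat.of P B)
  let eK : DRing.toD K ≅ Dual.inD P B := (((SingleFunctors.evaluation _ _ 0).mapIso
    (DerivedCategory.singleFunctorsPostcompQIso (ModuleCat.{u} P))).app _).symm
  let F := ModuleCat.extendScalars.{u, u, u} φ
  haveI := preservesFiniteLimits_extendScalars φ flat_algebraMap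
  obtain ⟨e1⟩ := nonempty_map_inD F B
  obtain ⟨e2⟩ := nonempty_extendScalars_iso (A := P) (B := Pq) B
  let Q' : DRing.Cx Pq := (bc φ).obj Q
  let eQ' : DRing.toD Q' ≅ Dual.inD Pq Bq :=
    toDMapCongr F (eQ ≪≫ eK.symm) ≪≫ e1 ≪≫
      (DerivedCategory.singleFunctor (ModuleCat.{u} Pq) 0).mapIso
        (e2.symm ≪≫ (Algebra.IsPushout.equiv P Pq B Bq).toLinearEquiv.toModuleIso)
  have hQ'c : DRing.VanishesAbove Q' c := fun j hj => F.map_isZero (hQc j hj)
  have hQ'f : DRing.TermwiseFiniteFree Q' := Groth.Agent.S7002.finiteFree_bc φ hQf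
  have hQ'flat : DRing.TermwiseFlat ((DRing.restrictCx (algebraMap A Pq)).obj Q') :=
    termwiseFlat_restrict (termwiseFlat_of_projective fun j => projective_of_finiteFree hQ'f j)
  have hTA : DRing.HasTorAmplitudeIn A (-(d : ℤ)) 0 (DRing.toD ((DRing.restrictCx (algebraMap A Pq)).obj Q')) :=
    hasTorAmplitudeIn_of_iso ((DRing.restrictD (algebraMap A Pq)).mapIso eQ'.symm ≪≫
        restrictToDIso (algebraMap A Pq) Q')
      (hasTorAmplitudeIn_of_iso
        (((ModuleCat.restrictScalars.{u} (algebraMap A Pq)).mapDerivedCategorySingleFunctor 0).app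
          (ModuleCat.of Pq Bq)).symm
        (hasTorAmplitudeIn_of_equiv (towerRestrictEquiv Bq) ((KF.hasTorDimLE_iff Bq d).1 hd)))
  -- exactness at the point
  let p : Ideal A := q'.comap (algebraMap A P)
  let i : ℤ := -((d + n + 1 : ℕ) : ℤ)
  let f : p.ResidueField →ₐ[A] q'.ResidueField := Ideal.ResidueField.mapₐ p q' (Algebra.ofId A P) rfl
  let χ : p.ResidueField ⊗[A] Pq →+* q'.ResidueField :=
    (Algebra.TensorProduct.productMap f (IsScalarTower.toAlgHom A Pq q'.ResidueField)).toRingHom
  let ψ : Pq →+* p.ResidueField ⊗[A] Pq :=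
    (Algebra.TensorProduct.includeRight : Pq →ₐ[A] p.ResidueField ⊗[A] Pq).toRingHom
  have hψ : χ.comp ψ = algebraMap Pq q'.ResidueField :=
    RingHom.ext fun x => by simp [χ, ψ]
  have hex : ((bc (χ.comp ψ)).obj Q').ExactAt i :=
    exactAt_bc_of_fibre ψ p.ResidueField (Groth.Agent.S7035.fibreEquiv p.ResidueField) n
      (fun M _ _ => pdLE_fibre_localization q' p.ResidueField M) χ hQ'c hQ'f
      (fun j hj => (hasTorAmplitudeIn_iff
        (fun k hk => (ModuleCat.restrictScalars (algebraMap A Pq)).map_isZero (hQ'c k hk)) hQ'flat _ _).1 hTA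
        p.ResidueField j hj) i (Or.inl (by omega))
  rw [hψ] at hex
  haveI := KF.hasLBaseChange (algebraMap P q'.ResidueField)
  have hQk := KF.isKFlat_of_vanishesAbove hQc
    (termwiseFlat_of_projective fun j => projective_of_finiteFree hQf j)
  have hi : Subsingleton (Dual.HD q'.ResidueField
      ((DRing.LBaseChange (algebraMap P q'.ResidueField)).obj (DRing.toD Q)) i) := by
    refine subsingleton_HD_of_iso (KF.lBase_value (algebraMap P q'.ResidueField) hQk).some.symm i
      ((exactAt_iff _ i).1 ?_)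
    rw [IsScalarTower.algebraMap_eq P Pq q'.ResidueField]
    exact (KF.exactAt_iff_of_iso (bcCompIso φ (algebraMap Pq q'.ResidueField) Q) i).2 hex
  -- spreading out
  obtain ⟨g, hg, -, ⟨b, hb⟩, -⟩ := Groth.Agent.S7002.result P q' i Q (isPseudoCoherent'_of_iso eQ.symm hpc) hi
  refine ⟨algebraMap P B g, hg, ?_⟩
  let Pg := Localization.Away g
  let Bg := Localization.Away (algebraMap P B g)
  letI : Algebra Pg Bg := (Localization.awayMap (algebraMap P B) g).toAlgebra
  haveI : IsScalarTower P Pg Bg := IsScalarTower.of_algebraMap_eq fun x => by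
    show _ = Localization.awayMap (algebraMap P B) g (algebraMap P Pg x)
    rw [IsScalarTower.algebraMap_apply P B Bg]
    exact (IsLocalization.map_eq _ x).symm
  haveI : IsScalarTower A P Bg := IsScalarTower.of_algebraMap_eq fun x => by
    rw [IsScalarTower.algebraMap_apply A B Bg, IsScalarTower.algebraMap_apply A P B,
      ← IsScalarTower.algebraMap_apply P B Bg]
  haveI : IsScalarTower A Pg Bg := IsScalarTower.of_algebraMap_eq fun x => by
    rw [IsScalarTower.algebraMap_apply A P Bg, IsScalarTower.algebraMap_apply A P Pg,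
      ← IsScalarTower.algebraMap_apply P Pg Bg]
  haveI : IsLocalization (Algebra.algebraMapSubmonoid B (Submonoid.powers g)) Bg := by
    rw [Algebra.algebraMapSubmonoid, Submonoid.map_powers]; infer_instance
  haveI : Algebra.IsPushout P B Pg Bg := Algebra.isPushout_of_isLocalization (Submonoid.powers g) _ _ _
  haveI : Algebra.IsPushout P Pg B Bg := Algebra.IsPushout.symm inferInstance
  let G := ModuleCat.extendScalars.{u, u, u} (algebraMap P Pg)
  haveI := preservesFiniteLimits_extendScalars (algebraMap P Pg) flat_algebraMap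
  obtain ⟨g1⟩ := nonempty_map_inD G B
  obtain ⟨g2⟩ := nonempty_extendScalars_iso (A := P) (B := Pg) B
  let eg : DRing.toD ((bc (algebraMap P Pg)).obj Q) ≅ Dual.inD Pg Bg :=
    toDMapCongr G (eQ ≪≫ eK.symm) ≪≫ g1 ≪≫
      (DerivedCategory.singleFunctor (ModuleCat.{u} Pg) 0).mapIso
        (g2.symm ≪≫ (Algebra.IsPushout.equiv P Pg B Bg).toLinearEquiv.toModuleIso)
  let t := (DerivedCategory.TStructure.t : Triangulated.TStructure (Dual.D Pg))
  have hge : t.IsGE (DRing.toD ((bc (algebraMap P Pg)).obj Q)) (i + 1) := by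
    haveI : t.IsGE (Dual.inD Pg Bg) 0 :=
      inferInstanceAs (((DerivedCategory.singleFunctor (ModuleCat.{u} Pg) 0).obj (ModuleCat.of Pg Bg)).IsGE 0)
    haveI := t.isGE_of_iso eg.symm 0
    exact t.isGE_of_ge _ (i + 1) 0 (by omega)
  haveI := hge
  have hiso : IsIso ((t.truncGEπ (i + 1)).app (DRing.toD ((bc (algebraMap P Pg)).obj Q))) :=
    (t.isGE_iff_isIso_truncGEπ_app (i + 1) _).1 hge
  have hTg : DRing.HasTorAmplitudeIn Pg (i + 1) b (Dual.inD Pg Bg) :=
    hasTorAmplitudeIn_of_iso (eg.symm ≪≫ @asIso _ _ _ _ _ hiso).symm hb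
  obtain ⟨e, he⟩ := exists_torDim (A := Pg) (M := Bg) ⟨i + 1, b, hTg⟩
  haveI : Module.Flat A Pg := Module.Flat.trans A P Pg
  exact finiteTorDim_trans (finiteTorDim_of_flat Pg) ⟨e, (KF.hasTorDimLE_iff Bg e).2 he⟩

end GrothLib.PHom
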