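import Groth.Agent.Lib.PerfHom.Stalks
import Groth.Agent.Lib.PerfHom.Scheme

/-!
# Perfectness from the stalks
-/

universe u

open AlgebraicGeometry CategoryTheory GrothLib.DR

attribute [local instance] HasDerivedCategory.standard

namespace GrothLib.PHom

variable {A B : Type u} [CommRing A] [CommRing B] [Algebra A B]

/-- Finite tor dimension of an algebra over a localisation of the base, on which the multiplicative set acts
invertibly. -/
theorem finiteTorDim_iff_of_localization {A' B' : Type u} [CommRing A'] [CommRing B'] [Algebra A A'] [Algebra A' B']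
    [Algebra A B'] [IsScalarTower A A' B'] (M : Submonoid A) [IsLocalization M A'] :
    DRing.HasFiniteTorDim A B' ↔ DRing.HasFiniteTorDim A' B' := by
  haveI : Module.Flat A A' := IsLocalization.flat A' M
  refine ⟨fun h => ?_, fun h => finiteTorDim_trans (finiteTorDim_of_flat A') h⟩
  haveI : IsLocalization (Algebra.algebraMapSubmonoid B' M) B' := IsLocalization.self (by
    rintro _ ⟨m, hm, rfl⟩
    rw [IsScalarTower.algebraMap_apply A A' B']
    exact (IsLocalization.map_units A' (⟨m, hm⟩ : M)).map _)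
  haveI : Algebra.IsPushout A B' A' B' := Algebra.isPushout_of_isLocalization M _ _ _
  haveI : Algebra.IsPushout A A' B' B' := Algebra.IsPushout.symm inferInstance
  exact finiteTorDim_baseChange (A := A) (B := B') (A' := A') (B' := B') h

/-- The stalks of a map of affines: finite tor dimension over the local ring of the base. -/
theorem finiteTorDim_stalk_iff {X S : Scheme.{u}} (f : X ⟶ S) {U : X.Opens} {V : S.Opens} (hU : IsAffineOpen U)
    (hV : IsAffineOpen V) (hUV : U ≤ f ⁻¹ᵁ V) (x : X) (hx : x ∈ U) :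
    letI := (f.stalkMap x).hom.toAlgebra
    letI := (f.appLE V U hUV).hom.toAlgebra
    DRing.HasFiniteTorDim ↑(S.presheaf.stalk (f x)) ↑(X.presheaf.stalk x) ↔
      DRing.HasFiniteTorDim Γ(S, V) (Localization.AtPrime (hU.primeIdealOf ⟨x, hx⟩).asIdeal) := by
  letI := (f.stalkMap x).hom.toAlgebra
  letI := (f.appLE V U hUV).hom.toAlgebra
  letI : Algebra Γ(S, V) ↑(S.presheaf.stalk (f x)) := S.presheaf.algebra_section_stalk ⟨f x, hUV hx⟩
  letI : Algebra Γ(X, U) ↑(X.presheaf.stalk x) := X.presheaf.algebra_section_stalk ⟨x, hx⟩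
  haveI : IsLocalization.AtPrime (↑(S.presheaf.stalk (f x))) (hV.primeIdealOf ⟨f x, hUV hx⟩).asIdeal :=
    hV.isLocalization_stalk ⟨f x, hUV hx⟩
  haveI : IsLocalization.AtPrime (↑(X.presheaf.stalk x)) (hU.primeIdealOf ⟨x, hx⟩).asIdeal :=
    hU.isLocalization_stalk ⟨x, hx⟩
  letI : Algebra Γ(S, V) ↑(X.presheaf.stalk x) :=
    ((algebraMap Γ(X, U) ↑(X.presheaf.stalk x)).comp (f.appLE V U hUV).hom).toAlgebra
  haveI : IsScalarTower Γ(S, V) Γ(X, U) ↑(X.presheaf.stalk x) := IsScalarTower.of_algebraMap_eq' rfl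
  haveI : IsScalarTower Γ(S, V) ↑(S.presheaf.stalk (f x)) ↑(X.presheaf.stalk x) :=
    IsScalarTower.of_algebraMap_eq' (by
      show (X.presheaf.germ U x hx).hom.comp (f.appLE V U hUV).hom =
        (f.stalkMap x).hom.comp (S.presheaf.germ V (f x) (hUV hx)).hom
      simp only [← CommRingCat.hom_comp]
      rw [Scheme.Hom.germ_stalkMap, Scheme.Hom.appLE, Category.assoc, TopCat.Presheaf.germ_res])
  rw [← finiteTorDim_iff_of_localization (A := Γ(S, V)) (hV.primeIdealOf ⟨f x, hUV hx⟩).asIdeal.primeCompl]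
  let e := IsLocalization.algEquiv (hU.primeIdealOf ⟨x, hx⟩).asIdeal.primeCompl (↑(X.presheaf.stalk x))
    (Localization.AtPrime (hU.primeIdealOf ⟨x, hx⟩).asIdeal)
  exact ⟨fun ⟨d, hd⟩ => ⟨d, torDimLE_of_equiv (e.restrictScalars Γ(S, V)).toLinearEquiv hd⟩,
    fun ⟨d, hd⟩ => ⟨d, torDimLE_of_equiv (e.restrictScalars Γ(S, V)).toLinearEquiv.symm hd⟩⟩

theorem finiteTorDim_of_forall_prime (h : MoreMor.IsPseudoCoherentHom A B)
    (hq : ∀ q : PrimeSpectrum B, DRing.HasFiniteTorDim A (Localization.AtPrime q.asIdeal)) :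
    DRing.HasFiniteTorDim A B := by
  refine finiteTorDim_of_span {b | DRing.HasFiniteTorDim A (Localization.Away b)} ?_ fun g hg => hg
  by_contra hne
  obtain ⟨m, hm, hle⟩ := Ideal.exists_le_maximal _ hne
  obtain ⟨b, hb, hfin⟩ := exists_away_finiteTorDim h m (hq ⟨m, hm.isPrime⟩)
  exact hb (hle (Ideal.subset_span hfin))

theorem perfMor_iff_stalks {X S : Scheme.{u}} (f : X ⟶ S) (hf : MoreMor.IsPseudoCoherentMor f) :
    MoreMor.IsPerfectMor f ↔ ∀ x : X,
      (letI := (f.stalkMap x).hom.toAlgebra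
       DRing.HasFiniteTorDim ↑(S.presheaf.stalk (f x)) ↑(X.presheaf.stalk x)) := by
  constructor
  · intro h x
    obtain ⟨U, V, hUV, hU, hV, hx, hl⟩ := (perfMor_iff_exists f).1 h x
    letI := (f.appLE V U hUV).hom.toAlgebra
    haveI : Module.Flat Γ(X, U) (Localization.AtPrime (hU.primeIdealOf ⟨x, hx⟩).asIdeal) :=
      IsLocalization.flat _ (hU.primeIdealOf ⟨x, hx⟩).asIdeal.primeCompl
    exact (finiteTorDim_stalk_iff f hU hV hUV x hx).2 (finiteTorDim_trans hl.2 (finiteTorDim_of_flat _))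
  · intro h U V hU hV hUV
    letI := (f.appLE V U hUV).hom.toAlgebra
    refine ⟨hf U V hU hV hUV, finiteTorDim_of_forall_prime (hf U V hU hV hUV) fun q => ?_⟩
    have hx : hU.fromSpec q ∈ U := by
      rw [← SetLike.mem_coe, ← hU.range_fromSpec]; exact ⟨q, rfl⟩
    have e : hU.primeIdealOf ⟨hU.fromSpec q, hx⟩ = q :=
      hU.fromSpec.isOpenEmbedding.injective (hU.fromSpec_primeIdealOf _)
    have h1 := (finiteTorDim_stalk_iff f hU hV hUV _ hx).1 (h _)
    rwa [e] at h1

end GrothLib.PHom
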